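import Cfsg.Agent.Lib.Chev.Mult.SmallData
import Cfsg.Agent.Lib.Chev.Cov.LiftP
import Cfsg.Agent.Lib.Chev.LieData
import Cfsg.Agent.Lib.Compute.MultBound

/-!
The kernel of a central extension of the Chevalley group of type B2 over three elements meets the
derived group without elements of order three; hence the multiplier of the presented group.
-/

set_option autoImplicit false
set_option linter.unusedSectionVars false
set_option linter.style.haveILetI false
set_option maxRecDepth 100000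

namespace Cfsg.Agent.Lib.Chev

open Cfsg.Lie
open scoped Matrix commutatorElement

universe u

section Abstract

variable {D : ChevalleyDatum} {K : Type u} [Field K]
variable {Γ : Type*} [Group Γ] (q : Γ →* GL D.Idx K) (hc : q.ker ≤ Subgroup.center Γ)
include hc

/-- A lift inverted by the lift of an element inverting the image. -/
theorem exists_anti {W A0 : Γ} (hW : q W * q A0 * (q W)⁻¹ = (q A0)⁻¹) :
    ∃ A, W * A * W⁻¹ = A⁻¹ ∧ q A = (q A0)⁻¹ * (q A0)⁻¹ := by
  refine ⟨⁅W, A0⁆, ?_, by rw [map_commutatorElement, commutatorElement_def, hW]⟩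
  obtain ⟨z, hz⟩ : ∃ z, z = W * A0 * W⁻¹ * A0 := ⟨_, rfl⟩
  have hzc : z ∈ Subgroup.center Γ := hc (by
    rw [MonoidHom.mem_ker, hz, map_mul, map_mul, map_mul, map_inv, hW, inv_mul_cancel])
  have cz : ∀ g, g * z = z * g := Subgroup.mem_center_iff.1 hzc
  have h1 : ⁅W, A0⁆ = z * A0⁻¹ * A0⁻¹ := by rw [hz, commutatorElement_def]; group
  rw [h1]
  calc W * (z * A0⁻¹ * A0⁻¹) * W⁻¹
      = (W * z) * W⁻¹ * (W * A0 * W⁻¹)⁻¹ * (W * A0 * W⁻¹)⁻¹ := by group
    _ = z * (W * A0 * W⁻¹)⁻¹ * (W * A0 * W⁻¹)⁻¹ := by rw [cz W, mul_inv_cancel_right]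
    _ = z * (A0 * z⁻¹) * (A0 * z⁻¹) := by rw [hz]; group
    _ = A0 * A0 * z⁻¹ := by
      rw [← mul_assoc z A0, ← cz A0, mul_inv_cancel_right, mul_assoc]
    _ = _ := by rw [mul_inv_rev, mul_inv_rev, inv_inv, mul_assoc]

/-- Lifts of commuting elements of order three, one inverted and one fixed, commute. -/
theorem comm_of_anti {W x y : Γ} (hx : W * x * W⁻¹ = x⁻¹) (hy : q (W * y * W⁻¹) = q y)
    (hy3 : (q y) ^ 3 = 1) (hxy : Commute (q x) (q y)) : Commute x y := by
  set c := ⁅x, y⁆ with hcdef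
  have hcc : c ∈ Subgroup.center Γ := hc (by
    rw [MonoidHom.mem_ker, hcdef, map_commutatorElement,
      commutatorElement_eq_one_iff_commute.2 hxy])
  have e1 : ⁅x⁻¹, y⁆ = c := by
    rw [← Good.comm_eq_of_q hc (rfl : q x⁻¹ = q x⁻¹) hy, ← hx]
    have : ⁅W * x * W⁻¹, W * y * W⁻¹⁆ = W * c * W⁻¹ := by
      rw [hcdef]; simp only [commutatorElement_def]; group
    rw [this, Subgroup.mem_center_iff.1 hcc W, mul_inv_cancel_right]
  have e2 : ⁅x⁻¹, y⁆ = c⁻¹ := by
    have : ⁅x⁻¹, y⁆ = x⁻¹ * c⁻¹ * x := by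
      rw [hcdef]; simp only [commutatorElement_def]; group
    rw [this, Subgroup.mem_center_iff.1 (inv_mem hcc) x⁻¹, inv_mul_cancel_right]
  have hsq : c * c = 1 := by
    have h := e1.symm.trans e2
    nth_rewrite 2 [h]
    exact mul_inv_cancel c
  have hpow : ∀ k : ℕ, ⁅x, y ^ k⁆ = c ^ k := by
    intro k
    induction k with
    | zero => simp
    | succ k ih =>
      rw [pow_succ, comm_mul_right (b' := y)
        (show Commute (y ^ k) ⁅x, y⁆ from Subgroup.mem_center_iff.1 hcc _), ih, pow_succ]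
  have h3 : c ^ 3 = 1 := by
    rw [← hpow, commutatorElement_eq_one_iff_commute]
    exact Subgroup.mem_center_iff.1 (hc (by rw [MonoidHom.mem_ker, map_pow, hy3])) x
  refine commutatorElement_eq_one_iff_commute.1 ?_
  rw [← hcdef]
  rwa [pow_succ, pow_two, hsq, one_mul] at h3

/-- The elements of the kernel in a suitable abelian subgroup have order two. -/
theorem sq_eq_one_of_anti {W u e : Γ} (hu : W * u * W⁻¹ = u⁻¹) (he : W * e * W⁻¹ = e)
    (hu3 : orderOf (q u) = 3) (he3 : orderOf (q e) = 3) (he1 : e ^ 3 = 1) {i j : ℤ} {z : Γ}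
    (hz : z ∈ q.ker) (hz2 : z ^ 2 = 1) (h : u ^ i * e ^ j * z ∈ q.ker) :
    (u ^ i * e ^ j * z) ^ 2 = 1 := by
  rw [MonoidHom.mem_ker, map_mul, MonoidHom.mem_ker.1 hz, mul_one] at h
  have h' : q ((W * u * W⁻¹) ^ i * (W * e * W⁻¹) ^ j) = 1 := by
    rw [conj_zpow, conj_zpow,
      show W * u ^ i * W⁻¹ * (W * e ^ j * W⁻¹) = W * (u ^ i * e ^ j) * W⁻¹ by group, map_mul,
      map_mul, map_inv, h, mul_one, mul_inv_cancel]
  rw [hu, he, map_mul, map_zpow, map_zpow, map_inv, inv_zpow] at h'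
  rw [map_mul, map_zpow, map_zpow] at h
  have hi : (3 : ℤ) ∣ i := by
    have h2 : q u ^ i = (q u ^ i)⁻¹ := mul_right_cancel (h.trans h'.symm)
    have h4 : q u ^ (i + i) = 1 := by
      rw [zpow_add]
      nth_rewrite 1 [h2]
      exact inv_mul_cancel _
    have := orderOf_dvd_iff_zpow_eq_one.2 h4
    rw [hu3] at this
    omega
  have hqi : q u ^ i = 1 := orderOf_dvd_iff_zpow_eq_one.1 (by rw [hu3]; exact_mod_cast hi)
  have hj : (3 : ℤ) ∣ j := by
    rw [hqi, one_mul] at h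
    have := orderOf_dvd_iff_zpow_eq_one.2 h
    rw [he3] at this
    exact_mod_cast this
  obtain ⟨i, rfl⟩ := hi
  obtain ⟨j, rfl⟩ := hj
  rw [show e ^ ((3 : ℤ) * j) = 1 by rw [zpow_mul, zpow_ofNat, he1, one_zpow], mul_one]
  have hu3c : u ^ 3 ∈ Subgroup.center Γ :=
    hc (by rw [MonoidHom.mem_ker, map_pow, ← hu3, pow_orderOf_eq_one])
  have hu6 : (u ^ 3) ^ 2 = 1 := by
    have : W * u ^ 3 * W⁻¹ = (u ^ 3)⁻¹ := by rw [← conj_pow, hu, inv_pow]
    rw [Subgroup.mem_center_iff.1 hu3c W, mul_inv_cancel_right] at this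
    rw [pow_two]
    nth_rewrite 2 [this]
    exact mul_inv_cancel _
  rw [(show Commute (u ^ ((3 : ℤ) * i)) z from Subgroup.mem_center_iff.1 (hc hz) _).mul_pow, hz2,
    mul_one, zpow_mul, zpow_ofNat, ← zpow_natCast, ← zpow_mul, mul_comm, zpow_mul, zpow_natCast,
    hu6, one_zpow]

end Abstract

variable {K : Type u} [Field K] [Fintype K]

/-- No element of order three in the kernel and the derived group. -/
theorem b2Three_torsion (hK : Fintype.card K = 3) {Γ : Type*} [Group Γ] [Finite Γ]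
    (τ : Γ →* ↥(chevB2.group K)) (hs : Function.Surjective τ) (hc : τ.ker ≤ Subgroup.center Γ)
    {z : Γ} (hz : z ∈ τ.ker) (hz' : z ∈ commutator Γ) (h3 : z ^ 3 = 1) : z = 1 := by
  classical
  haveI : Fact (Nat.Prime 3) := ⟨by norm_num⟩
  haveI : CharP K 3 := charP_of_card_eq_prime hK
  set G := goodB2
  have hk3 : (3 : K) = 0 := by exact_mod_cast CharP.cast_eq_zero K 3
  set q : Γ →* GL chevB2.Idx K := (chevB2.group K).subtype.comp τ with hqdef
  have hker : q.ker = τ.ker := by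
    ext x; simp [hqdef, MonoidHom.mem_ker]
  have hqc : q.ker ≤ Subgroup.center Γ := hker ▸ hc
  have lift : ∀ r < chevB2.nroots, ∀ t : K, ∃ x, q x = G.X K r t := fun r hr t => by
    obtain ⟨x, hx⟩ := hs ⟨_, G.X_mem_group hr t⟩
    exact ⟨x, congrArg Subtype.val hx⟩
  have l4 : 4 < chevB2.nroots := by decide
  have l5 : 5 < chevB2.nroots := by decide
  have l6 : 6 < chevB2.nroots := by decide
  have l7 : 7 < chevB2.nroots := by decide
  have hm1 : (-1 : K) ≠ 0 := neg_ne_zero.2 one_ne_zero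
  -- the torus element
  set h := G.Hg K 4 (-1 : K) with hh
  have hhG : h ∈ chevB2.group K :=
    G.borel_le_group (Subgroup.mem_sup_right (G.Hg_mem l4 hm1))
  obtain ⟨W, hW'⟩ := hs ⟨h, hhG⟩
  have hW : q W = h := congrArg Subtype.val hW'
  have hconj : ∀ r, r < chevB2.nroots → ∀ e : ℤ, pI chevB2 tabB2 4 r = e → ∀ t : K,
      h * G.X K r t * h⁻¹ = G.X K r ((-1) ^ e * t) := fun r hr e he t => by
    rw [hh, G.Hg_conj_X l4 hr hm1, ← he]
    simp [pI, isum_eq, Cfsg.Agent.Lib.Chev.P]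
  have c4 : ∀ t : K, h * G.X K 4 t * h⁻¹ = G.X K 4 t := fun t => by
    rw [hconj 4 l4 2 (by decide +kernel) t]; simp
  have c5 : ∀ t : K, h * G.X K 5 t * h⁻¹ = G.X K 5 (-t) := fun t => by
    rw [hconj 5 l5 (-1) (by decide +kernel) t]; simp
  have c6 : ∀ t : K, h * G.X K 6 t * h⁻¹ = G.X K 6 (-t) := fun t => by
    rw [hconj 6 l6 1 (by decide +kernel) t]; simp
  have c7 : ∀ t : K, h * G.X K 7 t * h⁻¹ = G.X K 7 t := fun t => by
    rw [hconj 7 l7 0 (by decide +kernel) t]; simp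
  -- commutators in the image
  have hX3 : ∀ r (t : K), G.X K r t ^ 3 = 1 := fun r t => G.X_pow_char r t
  have k46 : ∀ t u, Commute (G.X K 4 t) (G.X K 6 u) :=
    (G.ic_of_okP l4 l6 (by decide +kernel)).2
  have k47 : ∀ t u, Commute (G.X K 4 t) (G.X K 7 u) :=
    (G.ic_of_okP l4 l7 (by decide +kernel)).2
  have k57 : ∀ t u, Commute (G.X K 5 t) (G.X K 7 u) :=
    (G.ic_of_okP l5 l7 (by decide +kernel)).2
  have k67 : ∀ t u, Commute (G.X K 6 t) (G.X K 7 u) :=
    (G.ic_of_okP l6 l7 (by decide +kernel)).2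
  have t56 : tabB2.terms 5 6 = [(7, 2, 1, 1)] := by decide +kernel
  have t54 : tabB2.terms 5 4 = [(6, -1, 1, 1), (7, -1, 2, 1)] := by decide +kernel
  have e56 : ⁅G.X K 5 1, G.X K 6 1⁆ = G.X K 7 (-1) := by
    rw [commutatorElement_def, G.X_commutator l5 l6 (by decide) (by decide)]
    have hw : G.wordG (Good.cw tabB2 5 6 (-1 : K) 1) = G.X K 7 (-1) := by
      simp only [Good.cw, t56, List.map_cons, List.map_nil, Good.wordG, List.prod_cons, List.prod_nil,
        mul_one, neg_neg, one_pow]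
      show G.X K 7 ((2 : ℤ) : K) = _
      rw [show ((2 : ℤ) : K) = -1 by push_cast; linear_combination hk3]
    rw [hw, (k67 _ _).eq, mul_inv_cancel_right]
  have e54 : ⁅G.X K 5 1, G.X K 4 1⁆ = G.X K 6 (-1) * G.X K 7 (-1) := by
    rw [commutatorElement_def, G.X_commutator l5 l4 (by decide) (by decide)]
    have hw : G.wordG (Good.cw tabB2 5 4 (-1 : K) 1) = G.X K 6 (-1) * G.X K 7 (-1) := by
      simp only [Good.cw, t54, List.map_cons, List.map_nil, Good.wordG, List.prod_cons, List.prod_nil,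
        mul_one, neg_neg, one_pow]
      show G.X K 6 ((-1 : ℤ) : K) * G.X K 7 ((-1 : ℤ) : K) = _
      push_cast; rfl
    rw [hw, ((k46 _ _).mul_right (k47 _ _)).eq, mul_inv_cancel_right]
  have hanti : ∀ r, r < chevB2.nroots → (∀ t : K, h * G.X K r t * h⁻¹ = G.X K r (-t)) →
      ∃ A, W * A * W⁻¹ = A⁻¹ ∧ q A = G.X K r 1 := by
    intro r hr hr'
    obtain ⟨A0, hA0⟩ := lift r hr 1
    obtain ⟨A, hA, hqA⟩ := exists_anti q hqc (W := W) (A0 := A0) (by
      rw [hW, hA0, hr', G.X_inv])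
    refine ⟨A, hA, ?_⟩
    rw [hqA, hA0, G.X_inv, G.X_add, show (-1 : K) + -1 = 1 by linear_combination -hk3]
  obtain ⟨A, hA, qA⟩ := hanti 5 l5 c5
  obtain ⟨u, hu, qu⟩ := hanti 6 l6 c6
  obtain ⟨B, qB⟩ := lift 4 l4 1
  obtain ⟨e, he⟩ : ∃ e, e = ⁅A, u⁆ := ⟨_, rfl⟩
  have qe : q e = G.X K 7 (-1) := by rw [he, map_commutatorElement, qA, qu, e56]
  have qWe : q (W * e * W⁻¹) = q e := by
    rw [map_mul, map_mul, map_inv, hW, qe, c7]
  have qWB : q (W * B * W⁻¹) = q B := by
    rw [map_mul, map_mul, map_inv, hW, qB, c4]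
  have cAe : Commute A e := comm_of_anti q hqc hA qWe (by rw [qe, hX3]) (by rw [qA, qe]; exact k57 _ _)
  have cue : Commute u e := comm_of_anti q hqc hu qWe (by rw [qe, hX3]) (by rw [qu, qe]; exact k67 _ _)
  have cuB : Commute u B :=
    comm_of_anti q hqc hu qWB (by rw [qB, hX3]) (by rw [qu, qB]; exact (k46 _ _).symm)
  have hWe : W * e * W⁻¹ = e := by
    calc W * e * W⁻¹ = ⁅W * A * W⁻¹, W * u * W⁻¹⁆ := by
          rw [he]; simp only [commutatorElement_def]; group
      _ = ⁅A⁻¹, u⁻¹⁆ := by rw [hA, hu]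
      _ = (u * A)⁻¹ * e * (u * A) := by rw [he]; simp only [commutatorElement_def]; group
      _ = e := by rw [mul_assoc, ← (cue.mul_left cAe).eq, inv_mul_cancel_left]
  have hAu : A * u * A⁻¹ = e * u := by rw [he, commutatorElement_def]; group
  have hAu' : A⁻¹ * u * A = e⁻¹ * u := by
    have h1 : u = e * (A⁻¹ * u * A) := by
      calc u = A⁻¹ * (A * u * A⁻¹) * A := by group
        _ = A⁻¹ * (e * u) * A := by rw [hAu]
        _ = (A⁻¹ * e) * u * A := by group
        _ = _ := by rw [cAe.inv_left.eq]; group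
    conv_rhs => rw [h1]
    rw [inv_mul_cancel_left]
  have he1 : e ^ 3 = 1 := by
    have hA3 : ∀ n : ℕ, A ^ n * u * (A ^ n)⁻¹ = e ^ n * u := by
      intro n
      induction n with
      | zero => simp
      | succ n ih =>
        calc A ^ (n + 1) * u * (A ^ (n + 1))⁻¹ = A * (A ^ n * u * (A ^ n)⁻¹) * A⁻¹ := by
              rw [pow_succ']; group
          _ = (A * e ^ n) * u * A⁻¹ := by rw [ih]; group
          _ = e ^ n * (A * u * A⁻¹) := by rw [(cAe.pow_right n).eq]; group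
          _ = _ := by rw [hAu, ← mul_assoc, ← pow_succ]
    have h' := hA3 3
    rw [← Subgroup.mem_center_iff.1 (hqc (show A ^ 3 ∈ q.ker by
      rw [MonoidHom.mem_ker, map_pow, qA, hX3])) u, mul_inv_cancel_right] at h'
    exact mul_eq_right.1 h'.symm
  obtain ⟨z0, hz0⟩ : ∃ z0, z0 = e⁻¹ * u * ⁅A, B⁆ := ⟨_, rfl⟩
  have qz0 : z0 ∈ q.ker := by
    rw [MonoidHom.mem_ker, hz0, map_mul, map_mul, map_inv, qe, qu, map_commutatorElement, qA, qB,
      e54, mul_assoc, ← mul_assoc (G.X K 6 1), G.X_add, add_neg_cancel, G.X_zero, one_mul,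
      inv_mul_cancel]
  have cz0 : ∀ g, g * z0 = z0 * g := Subgroup.mem_center_iff.1 (hqc qz0)
  have hAB : ⁅A, B⁆ = u⁻¹ * e * z0 := by rw [hz0]; group
  have hz02 : z0 ^ 2 = 1 := by
    have h1 : W * ⁅A, B⁆ * W⁻¹ = A⁻¹ * ⁅A, B⁆⁻¹ * A := by
      calc W * ⁅A, B⁆ * W⁻¹ = ⁅W * A * W⁻¹, W * B * W⁻¹⁆ := by
            simp only [commutatorElement_def]; group
        _ = ⁅A⁻¹, B⁆ := by rw [hA]; exact Good.comm_eq_of_q hqc rfl qWB
        _ = _ := by simp only [commutatorElement_def]; group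
    rw [hAB] at h1
    have h2 : W * (u⁻¹ * e * z0) * W⁻¹ = u * e * z0 := by
      calc W * (u⁻¹ * e * z0) * W⁻¹
          = (W * u * W⁻¹)⁻¹ * (W * e * W⁻¹) * (W * z0) * W⁻¹ := by group
        _ = _ := by rw [hu, hWe, inv_inv, cz0 W, mul_assoc (u * e) _ W⁻¹, mul_inv_cancel_right]
    have h4 : A⁻¹ * (u⁻¹ * e * z0)⁻¹ * A = z0⁻¹ * (e⁻¹ * (e⁻¹ * u)) := by
      calc A⁻¹ * (u⁻¹ * e * z0)⁻¹ * A = (z0 * A)⁻¹ * e⁻¹ * u * A := by group
        _ = z0⁻¹ * (A⁻¹ * e⁻¹) * u * A := by rw [← cz0 A]; group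
        _ = z0⁻¹ * (e⁻¹ * (A⁻¹ * u * A)) := by rw [(cAe.inv_right.inv_left).eq]; group
        _ = _ := by rw [hAu']
    rw [h2, h4, ← mul_assoc e⁻¹, ((cue.inv_right.mul_right cue.inv_right).symm).eq, cz0, ← mul_assoc,
      ] at h1
    have h5 : z0 * z0 = e⁻¹ * e⁻¹ * e⁻¹ := by
      calc z0 * z0 = (u * e)⁻¹ * z0 * (z0 * (u * e)) := by
            rw [cz0 (u * e)⁻¹, mul_assoc z0, ← cz0 (u * e), inv_mul_cancel_left]
        _ = (u * e)⁻¹ * z0 * (z0⁻¹ * u * (e⁻¹ * e⁻¹)) := by
            rw [← mul_assoc z0 u e, h1]; simp only [mul_assoc]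
        _ = _ := by group
    rw [pow_two, h5, ← pow_two, ← pow_succ, inv_pow, he1, inv_one]
  -- the subgroup
  have hmulC : ∀ (i j k l : ℤ) (x y : Γ), x ∈ q.ker →
      u ^ i * e ^ j * x * (u ^ k * e ^ l * y) = u ^ (i + k) * e ^ (j + l) * (x * y) := by
    intro i j k l x y hx
    have cx := Subgroup.mem_center_iff.1 (hqc hx)
    calc u ^ i * e ^ j * x * (u ^ k * e ^ l * y)
        = u ^ i * (e ^ j * u ^ k) * e ^ l * (x * y) := by
          rw [← mul_assoc _ _ y, ← mul_assoc _ x y, mul_assoc (u ^ i * e ^ j) x, ← cx]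
          simp only [mul_assoc]
      _ = _ := by rw [((cue.zpow_zpow k j).symm).eq]; simp only [zpow_add, mul_assoc]
  let C : Subgroup Γ :=
    { carrier := {x | ∃ i j : ℤ, ∃ w ∈ q.ker, w ^ 2 = 1 ∧ x = u ^ i * e ^ j * w}
      one_mem' := ⟨0, 0, 1, one_mem _, one_pow _, by simp⟩
      mul_mem' := by
        rintro _ _ ⟨i, j, x, hx, hx2, rfl⟩ ⟨k, l, y, hy, hy2, rfl⟩
        refine ⟨i + k, j + l, x * y, mul_mem hx hy, ?_, hmulC i j k l x y hx⟩
        rw [(show Commute x y from Subgroup.mem_center_iff.1 (hqc hy) x).mul_pow, hx2, hy2, one_mul]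
      inv_mem' := by
        rintro _ ⟨i, j, x, hx, hx2, rfl⟩
        refine ⟨-i, -j, x⁻¹, inv_mem hx, by rw [inv_pow, hx2, inv_one],
          inv_eq_of_mul_eq_one_right ?_⟩
        rw [hmulC _ _ _ _ _ _ hx]; simp }
  have memu : u ∈ C := ⟨1, 0, 1, one_mem _, one_pow _, by simp⟩
  have meme : e ∈ C := ⟨0, 1, 1, one_mem _, one_pow _, by simp⟩
  have memz : z0 ∈ C := ⟨0, 0, z0, qz0, hz02, by simp⟩
  have hnorm : ∀ g : Γ, g * u * g⁻¹ ∈ C → g * e * g⁻¹ ∈ C →
      g ∈ Subgroup.normalizer (C : Set Γ) := by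
    intro g gu ge
    have hle : C.map (MulAut.conj g).toMonoidHom ≤ C := by
      rintro _ ⟨_, ⟨i, j, w, hw, hw2, rfl⟩, rfl⟩
      show g * (u ^ i * e ^ j * w) * g⁻¹ ∈ C
      rw [show g * (u ^ i * e ^ j * w) * g⁻¹ = (g * u ^ i * g⁻¹) * (g * e ^ j * g⁻¹) * (g * w * g⁻¹)
        by group, ← conj_zpow, ← conj_zpow, Subgroup.mem_center_iff.1 (hqc hw) g,
        mul_inv_cancel_right]
      exact mul_mem (mul_mem (zpow_mem gu i) (zpow_mem ge j)) ⟨0, 0, w, hw, hw2, by simp⟩
    have heq := Subgroup.eq_of_le_of_card_ge hle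
      (by rw [Subgroup.card_map_of_injective (MulAut.conj g).injective])
    refine Subgroup.mem_normalizer_iff.mpr fun v => ⟨fun hv => ?_, fun hv => ?_⟩
    · exact hle ⟨v, hv, rfl⟩
    · rw [← heq] at hv
      obtain ⟨v', hv', he'⟩ := hv
      exact (MulAut.conj g).injective he' ▸ hv'
  have hABC : ⁅A, B⁆ ∈ C := by rw [hAB]; exact mul_mem (mul_mem (inv_mem memu) meme) memz
  have hBe : B * e * B⁻¹ = e := by
    have hBA : B * A * B⁻¹ = z0⁻¹ * (e⁻¹ * u * A) := by
      calc B * A * B⁻¹ = ⁅A, B⁆⁻¹ * A := by simp only [commutatorElement_def]; group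
        _ = _ := by rw [hAB]; group
    calc B * e * B⁻¹ = ⁅B * A * B⁻¹, B * u * B⁻¹⁆ := by
          rw [he]; simp only [commutatorElement_def]; group
      _ = ⁅e⁻¹ * u * A, u⁆ := by
          rw [hBA, cuB.symm.eq, mul_inv_cancel_right]
          exact Good.comm_eq_of_q hqc (by
            rw [map_mul, map_inv, MonoidHom.mem_ker.1 qz0, inv_one, one_mul]) rfl
      _ = (e⁻¹ * u) * e * (u * (e⁻¹ * u)⁻¹ * u⁻¹) := by
          rw [he]; simp only [commutatorElement_def]; group
      _ = (e⁻¹ * u) * e * (e⁻¹ * u)⁻¹ := by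
          have : Commute u (e⁻¹ * u)⁻¹ := (cue.inv_right.mul_right (Commute.refl u)).inv_right
          rw [this.eq, mul_inv_cancel_right]
      _ = e := by
          have : Commute (e⁻¹ * u) e := ((Commute.refl e).inv_left).mul_left cue
          rw [this.eq, mul_inv_cancel_right]
  have hNA := hnorm A (by rw [hAu]; exact mul_mem meme memu)
    (by rw [cAe.eq, mul_inv_cancel_right]; exact meme)
  have hNB := hnorm B (by rw [cuB.symm.eq, mul_inv_cancel_right]; exact memu)
    (by rw [hBe]; exact meme)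
  -- the Sylow subgroup
  set S : Subgroup ↥(chevB2.group K) := Subgroup.closure {τ A, τ B} with hS
  have hcop : Nat.Coprime 3 S.index := by
    have sA : τ A ∈ S := Subgroup.subset_closure (by simp)
    have sB : τ B ∈ S := Subgroup.subset_closure (by simp)
    have sAB : τ ⁅A, B⁆ ∈ S := by
      rw [map_commutatorElement, commutatorElement_def]
      exact mul_mem (mul_mem (mul_mem sA sB) (inv_mem sA)) (inv_mem sB)
    have se : τ e ∈ S := by
      have h1 : ⁅A, ⁅A, B⁆⁆ = e⁻¹ := by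
        rw [hAB]
        calc ⁅A, u⁻¹ * e * z0⁆ = (A * u * A⁻¹)⁻¹ * (A * e * A⁻¹) * (A * z0) * A⁻¹ *
              (u⁻¹ * e * z0)⁻¹ := by simp only [commutatorElement_def]; group
          _ = (e * u)⁻¹ * e * z0 * (u⁻¹ * e * z0)⁻¹ := by
              rw [hAu, cAe.eq, mul_inv_cancel_right, cz0 A, mul_assoc _ _ A⁻¹,
                mul_inv_cancel_right]
          _ = u⁻¹ * (e⁻¹ * u) := by group
          _ = _ := by rw [(cue.inv_right.symm).eq, inv_mul_cancel_left]
      have h2 : τ e⁻¹ ∈ S := by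
        rw [← h1, map_commutatorElement, commutatorElement_def]
        exact mul_mem (mul_mem (mul_mem sA sAB) (inv_mem sA)) (inv_mem sAB)
      rw [map_inv] at h2
      exact inv_inv (τ e) ▸ inv_mem h2
    have su : τ u ∈ S := by
      have h1 : u = e * z0 * ⁅A, B⁆⁻¹ := by
        rw [hAB, mul_inv_rev, mul_inv_rev, inv_inv, mul_assoc e z0, mul_inv_cancel_left,
          mul_inv_cancel_left]
      rw [h1, map_mul, map_mul, MonoidHom.mem_ker.1 (hker ▸ qz0 : z0 ∈ τ.ker), mul_one, map_inv]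
      exact mul_mem se (inv_mem sAB)
    have hle : (chevB2.posUnipotent K).subgroupOf (chevB2.group K) ≤ S := by
      intro g hg
      have hsub : chevB2.posUnipotent K ≤ S.map (chevB2.group K).subtype := by
        refine G.posUnipotent_le_of fun r hr hp t => ?_
        have hpow : ∀ k : ℕ, ∀ r' (t' : K), G.X K r' t' ^ k = G.X K r' (k * t') := by
          intro k r' t'
          induction k with
          | zero => simp [G.X_zero]
          | succ k ih => rw [pow_succ, ih, G.X_add, Nat.cast_succ, add_mul, one_mul]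
        have hnat : ∃ k : ℕ, t = (k : K) := by
          obtain ⟨k, hk⟩ : ∃ k : ZMod 3, (ZMod.castHom (dvd_refl 3) K) k = t :=
            ((Fintype.bijective_iff_injective_and_card _).2
              ⟨(ZMod.castHom (dvd_refl 3) K).injective, by rw [ZMod.card, hK]⟩).2 t
          exact ⟨k.val, by rw [← hk, ZMod.castHom_apply, ZMod.natCast_val]⟩
        obtain ⟨k, rfl⟩ := hnat
        have one : G.X K r 1 ∈ S.map (chevB2.group K).subtype := by
          have hr8 : r < 8 := hr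
          have hp4 : 4 ≤ r := hp
          interval_cases r
          · exact ⟨τ B, sB, qB⟩
          · exact ⟨τ A, sA, qA⟩
          · exact ⟨τ u, su, qu⟩
          · exact ⟨τ e⁻¹, map_inv τ e ▸ inv_mem se, by
              show q e⁻¹ = _
              rw [map_inv, qe, G.X_inv, neg_neg]⟩
        rw [show (k : K) = k * 1 by rw [mul_one], ← hpow]
        exact pow_mem one k
      obtain ⟨g', hg', hgg⟩ := hsub hg
      rwa [← Subtype.ext hgg]
    obtain ⟨Q, hQ⟩ := (G.lieData (F := K) parB2 3).sylow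
    refine (Nat.Prime.coprime_iff_not_dvd (by norm_num)).2 fun hdvd => ?_
    exact Q.not_dvd_index (hdvd.trans (Subgroup.index_dvd_of_le (hQ ▸ hle)))
  have hzC := Cfsg.Agent.Lib.Compute.commutator_comap_le τ hc hS C hNA hNB hABC
    (by rw [← commutatorElement_inv]; exact inv_mem hABC)
    (Cfsg.Agent.Lib.Compute.mem_commutator_comap τ hs hc hz hz' h3 hcop)
  obtain ⟨i, j, w, hw, hw2, rfl⟩ := hzC
  have hne : ∀ t : K, t ≠ 0 → ∀ r, r < chevB2.nroots → orderOf (G.X K r t) = 3 := fun t ht r hr =>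
    orderOf_eq_prime (hX3 r t) fun h' => ht ((G.X_eq_one_iff hr t).1 h')
  have h2 := sq_eq_one_of_anti q hqc hu hWe (by rw [qu]; exact hne 1 one_ne_zero 6 l6)
    (by rw [qe]; exact hne (-1) hm1 7 l7) he1 hw hw2 (hker.symm ▸ hz)
  rw [pow_succ, h2, one_mul] at h3
  exact h3

/-- The presented group of type B2 over three elements has trivial multiplier. -/
theorem steinberg_multiplier_B2_three (hK : Fintype.card K = 3) :
    Cfsg.HasCyclicSchurMultiplier (chevB2.SteinbergGroup K) 1 := by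
  classical
  haveI : Fact (Nat.Prime 3) := ⟨by norm_num⟩
  haveI : CharP K 3 := charP_of_card_eq_prime hK
  set G := goodB2
  have hperf : commutator (chevB2.SteinbergCover K) = ⊤ := c_perfect_group (by simp) fun _ =>
    ⟨-1, neg_ne_zero.2 one_ne_zero, fun h => by
      have h2 : ((2 : ℕ) : K) = 0 := by push_cast; linear_combination -h
      exact absurd ((CharP.cast_eq_zero_iff K 3 2).1 h2) (by norm_num)⟩
  haveI := G.finite_steinberg (K := K) adjB2
  haveI : Subsingleton ↥(MonoidHom.id (chevB2.SteinbergGroup K)).ker :=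
    ⟨fun a b => Subtype.ext (a.2.trans b.2.symm)⟩
  haveI : Subsingleton (Multiplicative (ZMod 1)) := inferInstanceAs (Subsingleton (ZMod 1))
  have hst := G.perfect_steinberg (K := K) adjB2 hperf
  refine hasSchurMultiplier_of_universal (MonoidHom.id _) Function.surjective_id
    (fun x hx => by rw [show x = 1 from hx]; exact one_mem _) hst
    (fun Γ _ _ σ hs hc => ?_) (by
    letI := uniqueOfSubsingleton (1 : ↥(MonoidHom.id (chevB2.SteinbergGroup K)).ker)
    letI := uniqueOfSubsingleton (1 : Multiplicative (ZMod 1))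
    exact MulEquiv.ofUnique)
  have hker : (G.th K).ker ≤ Subgroup.center (chevB2.SteinbergGroup K) := fun x hx =>
    (G.ker_le adjB2 hx).2
  set τ0 : Γ →* ↥(chevB2.group K) := (G.theta K).comp σ with hτ0
  have hτs : Function.Surjective τ0 := G.theta_surjective.comp hs
  have hτc : τ0.ker ≤ Subgroup.center Γ := fun x hx =>
    mem_center_of_map hs hc hst (hker (congrArg Subtype.val hx))
  set q : ↥(commutator Γ) →* GL chevB2.Idx K :=
    (chevB2.group K).subtype.comp (τ0.comp (commutator Γ).subtype) with hq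
  have hqk : ∀ x, x ∈ q.ker → (x : Γ) ∈ τ0.ker := fun x hx => Subtype.ext hx
  have hσ' : (commutator Γ).map σ = ⊤ := by
    rw [commutator_def, Subgroup.map_commutator, Subgroup.map_top_of_surjective σ hs,
      ← commutator_def, hst]
  have hτ' : (commutator Γ).map τ0 = ⊤ := by
    rw [hτ0, ← Subgroup.map_map, hσ', Subgroup.map_top_of_surjective _ G.theta_surjective]
  obtain ⟨τ, hτ⟩ := G.exists_lift_p q (p := 3)
    (fun x hx => Subgroup.mem_center_iff.2 fun g =>
      Subtype.ext (Subgroup.mem_center_iff.1 (hτc (hqk x hx)) g))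
    (fun g hg => by
      obtain ⟨x, hx, hxg⟩ := (le_of_eq hτ'.symm : ⊤ ≤ (commutator Γ).map τ0)
        (Subgroup.mem_top (⟨g, hg⟩ : ↥(chevB2.group K)))
      exact ⟨⟨x, hx⟩, congrArg Subtype.val hxg⟩)
    (fun x hx h => Subtype.ext (b2Three_torsion hK τ0 hτs hτc (hqk x hx) x.2
      (congrArg Subtype.val h)))
    (fun x _ => isOfFinOrder_of_finite x)
  obtain ⟨e, he⟩ := G.c_exists_equiv (K := K) adjB2
  have h1 : (G.th K).comp e.toMonoidHom = G.c_th K := by
    refine PresentedGroup.ext fun p => ?_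
    have e' : PresentedGroup.of (rels := chevB2.steinbergRelsAB K) p =
        chevB2.scGen K p.1.val p.2 := by
      rw [ChevalleyDatum.scGen, ChevalleyDatum.stX, dif_pos p.1.isLt]; rfl
    show G.th K (e (PresentedGroup.of p)) = G.c_th K (PresentedGroup.of p)
    rw [e', he]
    exact (G.th_xb p.1.isLt p.2).trans (G.c_th_xb p.1.isLt p.2).symm
  refine ⟨(commutator Γ).subtype.comp (τ.comp e.symm.toMonoidHom),
    hom_eq_of_perfect hst (G.th K) hker (MonoidHom.ext fun x => ?_)⟩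
  show q (τ (e.symm x)) = G.th K x
  rw [show q (τ (e.symm x)) = G.c_th K (e.symm x) from DFunLike.congr_fun hτ _, ← h1]
  exact congrArg (G.th K) (e.apply_symm_apply x)

end Cfsg.Agent.Lib.Chev
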