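import Cfsg.Agent.Lib.Chev.Cov.Universal
import Cfsg.Agent.Lib.Chev.Cov.Finite
import Cfsg.Agent.Lib.Chev.Steinberg
import Cfsg.Prelude.Def_KGroupFacts

/-!
Schur multipliers of the finite Chevalley groups from the universality of Steinberg's group.
-/

set_option autoImplicit false
set_option linter.unusedSectionVars false
set_option linter.style.haveILetI false

namespace Cfsg.Agent.Lib.Chev

open Cfsg.Lie
open scoped Matrix commutatorElement

universe u v

/-- A universal central extension computes the multiplier. -/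
theorem hasSchurMultiplier_of_universal {G E : Type u} [Group G] [Group E] [Finite E] (π : E →* G)
    (hπ : Function.Surjective π) (hc : π.ker ≤ Subgroup.center E) (hperf : commutator E = ⊤)
    (hu : ∀ (Γ : Type u) [Group Γ] [Finite Γ] (σ : Γ →* G), Function.Surjective σ →
      σ.ker ≤ Subgroup.center Γ → ∃ τ : E →* Γ, σ.comp τ = π)
    {A : Type v} [CommGroup A] (e : π.ker ≃* A) : Cfsg.HasSchurMultiplier G A := by
  refine ⟨⟨E, inferInstance, inferInstance, π, ⟨hπ, hc, hperf ▸ le_top⟩, ⟨e⟩⟩, ?_⟩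
  intro Γ _ _ σ hσ
  obtain ⟨τ, hτ⟩ := hu Γ σ hσ.1 hσ.2.1
  have hτ' : ∀ x, σ (τ x) = π x := fun x => DFunLike.congr_fun hτ x
  have hdec : ∀ g, ∃ r ∈ τ.range, ∃ z ∈ Subgroup.center Γ, g = r * z := fun g => by
    obtain ⟨x, hx⟩ := hπ (σ g)
    exact ⟨τ x, ⟨x, rfl⟩, (τ x)⁻¹ * g, hσ.2.1 (by
      rw [MonoidHom.mem_ker, map_mul, map_inv, hτ', hx, inv_mul_cancel]), by group⟩
  have hcomm : commutator Γ ≤ τ.range := by
    rw [commutator_eq_closure]
    refine (Subgroup.closure_le _).2 ?_
    rintro g ⟨a, b, rfl⟩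
    obtain ⟨r, hr, z, hz, rfl⟩ := hdec a
    obtain ⟨s, hs, w, hw, rfl⟩ := hdec b
    have cz : ∀ g, g * z = z * g := Subgroup.mem_center_iff.1 hz
    have cw : ∀ g, g * w = w * g := Subgroup.mem_center_iff.1 hw
    have e : ⁅r * z, s * w⁆ = r * s * r⁻¹ * s⁻¹ := by
      rw [commutatorElement_def]
      calc r * z * (s * w) * (r * z)⁻¹ * (s * w)⁻¹
          = r * (z * s) * w * z⁻¹ * r⁻¹ * w⁻¹ * s⁻¹ := by group
        _ = r * s * (z * w) * z⁻¹ * r⁻¹ * w⁻¹ * s⁻¹ := by rw [← cz s]; group
        _ = r * s * (w * r⁻¹) * w⁻¹ * s⁻¹ := by rw [← cz w]; group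
        _ = _ := by rw [← cw r⁻¹]; group
    rw [SetLike.mem_coe, e]
    exact mul_mem (mul_mem (mul_mem hr hs) (inv_mem hr)) (inv_mem hs)
  refine ⟨(MonoidHom.comp
    ({ toFun := fun x => ⟨τ x.1, MonoidHom.mem_ker.2 ((hτ' x.1).trans x.2)⟩
       map_one' := Subtype.ext (map_one τ)
       map_mul' := fun a b => Subtype.ext (map_mul τ _ _) } : π.ker →* σ.ker)
      e.symm.toMonoidHom), ?_⟩
  rintro ⟨z, hz⟩
  obtain ⟨x, rfl⟩ := hcomm (hσ.2.2 hz)
  exact ⟨e ⟨x, MonoidHom.mem_ker.2 ((hτ' x).symm.trans hz)⟩,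
    Subtype.ext (by simp)⟩

variable {D : ChevalleyDatum} {T : Tables} {K : Type u} [Field K]

namespace Good

variable (G : Good D T)
include G

/-- The root elements lift to every central extension. -/
def Lifts (K : Type u) [Field K] : Prop :=
  ∀ (P : Type u) [Group P] (q : P →* GL D.Idx K), q.ker ≤ Subgroup.center P →
    D.group K ≤ q.range → ∃ τ : D.SteinbergCover K →* P, q.comp τ = G.c_th K

theorem lifts_of_five (hK : ∃ s : Finset K, 4 < s.card) (hsep : chkSep D T = true)
    (hself : chkSelf D T = true) : G.Lifts K :=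
  fun _ _ q hq hr => G.exists_lift_torus q hK hsep hself hq hr

theorem hbHom_comm (ha : chkAdj D T = true) :
    Pairwise fun i j => ∀ x y, Commute (G.hbHom K i x) (G.hbHom K j y) :=
  fun i j _ x y => G.hb_comm ha i.2 j.2 x.ne_zero y.ne_zero

/-- The map from the parameters onto the lifted torus. -/
noncomputable def hbPi (K : Type u) [Field K] (ha : chkAdj D T = true) :
    (Fin D.rank → Kˣ) →* D.SteinbergGroup K :=
  MonoidHom.noncommPiCoprod (G.hbHom K) (G.hbHom_comm ha)

theorem ker_le_hbPi (ha : chkAdj D T = true) : (G.theta K).ker ≤ (G.hbPi K ha).range := by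
  intro g hg
  have hle : Hbar D K ≤ (G.hbPi K ha).range := by
    refine (Subgroup.closure_le _).2 ?_
    rintro x ⟨i, t, hi, ht, rfl⟩
    exact ⟨Pi.mulSingle ⟨i, hi⟩ (Units.mk0 t ht), MonoidHom.noncommPiCoprod_mulSingle _ _ _⟩
  refine hle (G.ker_le_Hbar ha ?_)
  show ((G.theta K g : ↥(D.group K)) : GL D.Idx K) = 1
  rw [MonoidHom.mem_ker.1 hg]; rfl

theorem finite_steinberg [Finite K] (ha : chkAdj D T = true) : Finite (D.SteinbergGroup K) := by
  haveI : Finite ↥(G.hbPi K ha).range :=
    Finite.of_surjective _ (G.hbPi K ha).rangeRestrict_surjective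
  haveI : Finite ↥(G.theta K).ker :=
    Finite.of_injective _ (Subgroup.inclusion_injective (G.ker_le_hbPi ha))
  haveI : Finite (D.SteinbergGroup K ⧸ (G.theta K).ker) :=
    Finite.of_equiv _ (QuotientGroup.quotientKerEquivOfSurjective (G.theta K)
      G.theta_surjective).symm.toEquiv
  exact Finite.of_equiv _ (Subgroup.groupEquivQuotientProdSubgroup (s := (G.theta K).ker)).symm

theorem perfect_steinberg [Finite K] (ha : chkAdj D T = true)
    (hperf : commutator (D.SteinbergCover K) = ⊤) : commutator (D.SteinbergGroup K) = ⊤ := by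
  obtain ⟨e, -⟩ := G.c_exists_equiv (K := K) ha
  rw [commutator_def, ← Subgroup.map_top_of_surjective e.toMonoidHom e.surjective,
    ← Subgroup.map_commutator, ← commutator_def, hperf]

/-- The lifting property for the presented group. -/
theorem exists_steinberg_lift [Finite K] (ha : chkAdj D T = true) (hL : G.Lifts K) {P : Type u}
    [Group P] (q : P →* GL D.Idx K) (hq : q.ker ≤ Subgroup.center P) (hr : D.group K ≤ q.range) :
    ∃ τ : D.SteinbergGroup K →* P, q.comp τ = G.th K := by
  obtain ⟨e, he⟩ := G.c_exists_equiv (K := K) ha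
  obtain ⟨τ, hτ⟩ := hL P q hq hr
  have h1 : (G.th K).comp e.toMonoidHom = G.c_th K := by
    refine PresentedGroup.ext fun p => ?_
    have e' : PresentedGroup.of (rels := D.steinbergRelsAB K) p = D.scGen K p.1.val p.2 := by
      rw [ChevalleyDatum.scGen, ChevalleyDatum.stX, dif_pos p.1.isLt]; rfl
    show G.th K (e (PresentedGroup.of p)) = G.c_th K (PresentedGroup.of p)
    rw [e', he]
    exact (G.th_xb p.1.isLt p.2).trans (G.c_th_xb p.1.isLt p.2).symm
  refine ⟨τ.comp e.symm.toMonoidHom, MonoidHom.ext fun x => ?_⟩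
  show q (τ (e.symm x)) = G.th K x
  rw [show q (τ (e.symm x)) = G.c_th K (e.symm x) from DFunLike.congr_fun hτ _,
    ← h1]
  exact congrArg (G.th K) (e.apply_symm_apply x)

/-- The multiplier of the adjoint group is the centre of the presented group. -/
theorem group_multiplier [Finite K] (ha : chkAdj D T = true)
    (hperf : commutator (D.SteinbergCover K) = ⊤) (hL : G.Lifts K) {A : Type v} [CommGroup A]
    (e : (G.theta K).ker ≃* A) : Cfsg.HasSchurMultiplier ↥(D.group K) A := by
  haveI := G.finite_steinberg (K := K) ha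
  refine hasSchurMultiplier_of_universal (G.theta K) G.theta_surjective
    (G.theta_ker ha).le (G.perfect_steinberg ha hperf) (fun Γ _ _ σ hs hc => ?_) e
  obtain ⟨τ, hτ⟩ := G.exists_steinberg_lift ha hL ((D.group K).subtype.comp σ)
    (fun x hx => hc (Subtype.ext hx)) (fun g hg => by
      obtain ⟨x, hx⟩ := hs ⟨g, hg⟩
      exact ⟨x, congrArg Subtype.val hx⟩)
  exact ⟨τ, MonoidHom.ext fun x => Subtype.ext (DFunLike.congr_fun hτ x)⟩

/-- The presented group has trivial multiplier. -/
theorem steinberg_multiplier [Finite K] (ha : chkAdj D T = true)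
    (hperf : commutator (D.SteinbergCover K) = ⊤) (hL : G.Lifts K) :
    Cfsg.HasCyclicSchurMultiplier (D.SteinbergGroup K) 1 := by
  haveI := G.finite_steinberg (K := K) ha
  haveI : Subsingleton ↥(MonoidHom.id (D.SteinbergGroup K)).ker :=
    ⟨fun a b => Subtype.ext (a.2.trans b.2.symm)⟩
  haveI : Subsingleton (Multiplicative (ZMod 1)) := inferInstanceAs (Subsingleton (ZMod 1))
  have hst := G.perfect_steinberg ha hperf
  refine hasSchurMultiplier_of_universal (MonoidHom.id _) Function.surjective_id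
    (fun x hx => by rw [show x = 1 from hx]; exact one_mem _) hst
    (fun Γ _ _ σ hs hc => ?_) (by
    letI := uniqueOfSubsingleton (1 : ↥(MonoidHom.id (D.SteinbergGroup K)).ker)
    letI := uniqueOfSubsingleton (1 : Multiplicative (ZMod 1))
    exact MulEquiv.ofUnique)
  have hker : (G.th K).ker ≤ Subgroup.center (D.SteinbergGroup K) := fun x hx =>
    (G.ker_le ha hx).2
  obtain ⟨τ, hτ⟩ := G.exists_steinberg_lift ha hL ((G.th K).comp σ)
    (fun x hx => mem_center_of_map hs hc hst (hker hx)) (fun g hg => by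
      obtain ⟨y, hy⟩ := G.theta_surjective ⟨g, hg⟩
      obtain ⟨x, hx⟩ := hs y
      exact ⟨x, by show G.th K (σ x) = g; rw [hx]; exact congrArg Subtype.val hy⟩)
  exact ⟨τ, hom_eq_of_perfect hst (G.th K) hker (by rw [← MonoidHom.comp_assoc, hτ]; rfl)⟩

/-- Trivial multiplier when the torus map is injective. -/
theorem group_multiplier_one [Finite K] (ha : chkAdj D T = true)
    (hperf : commutator (D.SteinbergCover K) = ⊤) (hL : G.Lifts K)
    (hinj : Function.Injective (G.torHom K)) :
    Cfsg.HasCyclicSchurMultiplier ↥(D.group K) 1 := by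
  haveI : Subsingleton ↥(G.theta K).ker := ⟨fun a b => by
    have key : ∀ c : ↥(G.theta K).ker, c.1 = 1 := fun c =>
      G.ker_eq_bot_of_torHom_inj ha hinj (by
        show ((G.theta K c.1 : ↥(D.group K)) : GL D.Idx K) = 1
        rw [MonoidHom.mem_ker.1 c.2]; rfl)
    exact Subtype.ext ((key a).trans (key b).symm)⟩
  haveI : Subsingleton (Multiplicative (ZMod 1)) := inferInstanceAs (Subsingleton (ZMod 1))
  exact G.group_multiplier ha hperf hL (by
    letI := uniqueOfSubsingleton (1 : ↥(G.theta K).ker)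
    letI := uniqueOfSubsingleton (1 : Multiplicative (ZMod 1))
    exact MulEquiv.ofUnique)

end Good

end Cfsg.Agent.Lib.Chev
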