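import Cfsg.Agent.Lib.Chev.Mult.LacedData
import Cfsg.Agent.Lib.Chev.WeightData

/-!
The presented groups of types E6 and E7 map into the Chevalley group of type E8, injectively on the
lifted torus; hence the order of their centres.
-/

set_option autoImplicit false
set_option linter.unusedSectionVars false
set_option linter.style.haveILetI false
set_option maxRecDepth 100000

namespace Cfsg.Agent.Lib.Chev

open Cfsg.Lie
open scoped Matrix

universe u

/-- A list of root indices is an embedding of a system into E8. -/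
def chkEmb (D : ChevalleyDatum) (T : Tables) (L : List ℕ) : Bool :=
  decide (D.rank ≤ chevE8.rank) &&
  allLt D.rank (fun i => L.getD (sim D i) 0 == sim chevE8 i) &&
  allLt D.nroots (fun r => decide (L.getD r 0 < chevE8.nroots) &&
    (L.getD (ng D r) 0 == ng chevE8 (L.getD r 0))) &&
  allLt D.nroots fun r => allLt D.nroots fun s => (s == r) || (s == ng D r) ||
    ((L.getD s 0 != L.getD r 0) && (L.getD s 0 != ng chevE8 (L.getD r 0)) &&
      (tabE8.terms (L.getD r 0) (L.getD s 0) == (T.terms r s).map fun c => (L.getD c.1 0, c.2)))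

/-- E6 inside E8. -/
def embE6 : List ℕ := [35, 45, 51, 54, 55, 61, 64, 65, 68, 69, 70, 73, 74, 75, 76, 77, 83, 86, 87, 90, 91, 92, 95, 96, 97, 98, 101, 102, 103, 104, 107, 108, 109, 112, 113, 116, 123, 126, 127, 130, 131, 132, 135, 136, 137, 138, 141, 142, 143, 144, 147, 148, 149, 152, 153, 156, 162, 163, 164, 165, 166, 169, 170, 171, 174, 175, 178, 184, 185, 188, 194, 204]

/-- E7 inside E8. -/
def embE7 : List ℕ := [13, 20, 25, 29, 32, 34, 35, 39, 42, 44, 45, 48, 50, 51, 53, 54, 55, 58, 60, 61, 63, 64, 65, 67, 68, 69, 70, 72, 73, 74, 75, 76, 77, 80, 82, 83, 85, 86, 87, 89, 90, 91, 92, 94, 95, 96, 97, 98, 100, 101, 102, 103, 104, 106, 107, 108, 109, 111, 112, 113, 115, 116, 118, 121, 123, 124, 126, 127, 128, 130, 131, 132, 133, 135, 136, 137, 138, 139, 141, 142, 143, 144, 145, 147, 148, 149, 150, 152, 153, 154, 156, 157, 159, 162, 163, 164, 165, 166, 167, 169, 170, 171, 172, 174, 175, 176, 178, 179, 181, 184, 185, 186, 188, 189, 191, 194, 195, 197, 200, 204, 205, 207, 210, 214, 219, 226]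

theorem embE6_chk : chkEmb chevE6 tabE6 embE6 = true := by decide +kernel
theorem embE7_chk : chkEmb chevE7 tabE7 embE7 = true := by decide +kernel

variable {D : ChevalleyDatum} {T : Tables} {K : Type u} [Field K]

namespace Good

variable (G : Good D T)
include G

theorem th_hbPi (ha : chkAdj D T = true) : (G.th K).comp (G.hbPi K ha) = G.torHom K := by
  refine MonoidHom.pi_ext fun i t => ?_
  rw [MonoidHom.comp_apply, hbPi, MonoidHom.noncommPiCoprod_mulSingle, ← G.Hg_eq_torHom i t]
  exact G.th_hb (G.sim_lt i.isLt) _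

theorem exists_emb [Finite K] (ha : chkAdj D T = true) {L : List ℕ} (h : chkEmb D T L = true) :
    ∃ ψ : D.SteinbergGroup K →* GL chevE8.Idx K, ∀ i : Fin D.rank, ∀ t : Kˣ,
      ψ (hb D K (sim D i.val) (t : K)) = goodE8.Hg K (sim chevE8 i.val) (t : K) := by
  simp only [chkEmb, Bool.and_eq_true, decide_eq_true_eq] at h
  obtain ⟨⟨⟨-, hsim⟩, hrt⟩, hpair⟩ := h
  set ι : ℕ → ℕ := fun r => L.getD r 0
  have hι : ∀ r < D.nroots, ι r < chevE8.nroots ∧ ι (ng D r) = ng chevE8 (ι r) := fun r hr => by
    simpa [ι] using allLt_eq_true hrt r hr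
  set f : Fin D.nroots × K → GL chevE8.Idx K := fun p => goodE8.X K (ι p.1) p.2 with hf
  have hX : ∀ r t, r < D.nroots → FreeGroup.lift f (D.stX r t) = goodE8.X K (ι r) t := by
    intro r t hr
    simp [ChevalleyDatum.stX, hr, hf]
  have hrel : ∀ g ∈ D.steinbergRelsAB K, FreeGroup.lift f g = 1 := by
    rintro g (⟨r, t, u, hr, rfl⟩ | ⟨r, s, t, u, hr, hs, h1, h2, rfl⟩)
    · simp only [map_mul, map_inv, hX _ _ hr, goodE8.X_add, mul_inv_cancel]
    · rw [G.neg_eq hr] at h2
      have hp := allLt_eq_true (allLt_eq_true hpair r hr) s hs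
      simp only [Bool.or_eq_true, beq_iff_eq, Bool.and_eq_true, bne_iff_ne, ne_eq] at hp
      rcases hp with (hp | hp) | ⟨⟨g1, g2⟩, g3⟩
      · exact absurd hp h1
      · exact absurd hp h2
      have hw : ∀ p ∈ D.commWord K r s t u, p.1 < D.nroots := by
        intro p hp
        rw [G.commWord_eq hr hs] at hp
        obtain ⟨⟨k, C, a, b⟩, hc, rfl⟩ := List.mem_map.1 hp
        exact (G.mem_terms hr hs hc).1
      have hword : FreeGroup.lift f (D.stWord (D.commWord K r s t u)) =
          goodE8.wordG (cw tabE8 (ι r) (ι s) t u) := by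
        rw [ChevalleyDatum.stWord, map_list_prod, List.map_map, Good.wordG]
        refine congrArg List.prod ?_
        refine (List.map_congr_left (g := fun p => goodE8.X K (ι p.1) p.2)
          fun p hp => hX p.1 p.2 (hw p hp)).trans ?_
        rw [G.commWord_eq hr hs, cw, cw]
        simp only [ι, g3, List.map_map]
        rfl
      simp only [map_mul, map_inv, hX _ _ hr, hX _ _ hs, hword]
      rw [mul_inv_eq_one, mul_assoc _ (goodE8.X K (ι s) u),
        goodE8.commAt (ι r) (ι s) (hι r hr).1 (hι s hs).1 g1 g2 t u]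
      group
  obtain ⟨e, he⟩ := G.c_exists_equiv (K := K) ha
  set ψ := (PresentedGroup.toGroup hrel).comp e.symm.toMonoidHom with hψ
  have hxb : ∀ r < D.nroots, ∀ t : K, ψ (xb D K r t) = goodE8.X K (ι r) t := by
    intro r hr t
    have e1 : e.symm (xb D K r t) = D.scGen K r t := e.symm_apply_eq.2 (he r t).symm
    show PresentedGroup.toGroup hrel (e.symm (xb D K r t)) = _
    rw [e1, ← hX r t hr]
    rfl
  have hnb : ∀ r < D.nroots, ∀ t : K, ψ (nb D K r t) = goodE8.Ng K (ι r) t := by
    intro r hr t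
    rw [G.nb_eq hr, map_mul, map_mul, hxb r hr, hxb _ (G.ng_lt hr), (hι r hr).2]
    rfl
  refine ⟨ψ, fun i t => ?_⟩
  rw [hb_eq, map_mul, hnb _ (G.sim_lt i.isLt), hnb _ (G.sim_lt i.isLt)]
  have hs := allLt_eq_true hsim i.val i.isLt
  rw [beq_iff_eq] at hs
  show goodE8.Ng K (L.getD (sim D i.val) 0) _ * goodE8.Ng K (L.getD (sim D i.val) 0) _ = _
  rw [hs]
  rfl

theorem hbPi_injective [Fintype K] (ha : chkAdj D T = true) {L : List ℕ}
    (h : chkEmb D T L = true) : Function.Injective (G.hbPi K ha) := by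
  classical
  obtain ⟨ψ, hψ⟩ := G.exists_emb (K := K) ha h
  simp only [chkEmb, Bool.and_eq_true, decide_eq_true_eq] at h
  have hle := h.1.1.1
  let ext : (Fin D.rank → Kˣ) →* (Fin chevE8.rank → Kˣ) :=
    { toFun := fun c j => if hj : j.val < D.rank then c ⟨j.val, hj⟩ else 1
      map_one' := funext fun j => by simp
      map_mul' := fun a b => funext fun j => by
        by_cases hj : j.val < D.rank <;> simp [hj] }
  have key : ψ.comp (G.hbPi K ha) = (goodE8.torHom K).comp ext := by
    refine MonoidHom.pi_ext fun i t => ?_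
    rw [MonoidHom.comp_apply, hbPi, MonoidHom.noncommPiCoprod_mulSingle]
    refine (hψ i t).trans ((goodE8.Hg_eq_torHom (Fin.castLE hle i) t).trans ?_)
    rw [MonoidHom.comp_apply]
    congr 1
    funext j
    show _ = if hj : j.val < D.rank then (Pi.mulSingle i t : Fin D.rank → Kˣ) ⟨j.val, hj⟩ else 1
    by_cases hji : j = Fin.castLE hle i
    · subst hji
      simp
    · rw [Pi.mulSingle_eq_of_ne hji]
      split
      · rename_i hj
        rw [Pi.mulSingle_eq_of_ne]
        exact fun e => hji (Fin.ext (by simpa using congrArg Fin.val e))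
      · rfl
  have hinj8 : Function.Injective (goodE8.torHom K) :=
    goodE8.injective_torHom smithE8 fun a ha' => by
      have : a < 8 := ha'
      interval_cases a <;> simp
  intro a b hab
  have h1 := DFunLike.congr_fun key a
  rw [MonoidHom.comp_apply, hab, ← MonoidHom.comp_apply, key, MonoidHom.comp_apply,
    MonoidHom.comp_apply] at h1
  have h2 := hinj8 h1
  funext i
  have := congrFun h2 (Fin.castLE hle i)
  simpa [ext] using this.symm

theorem card_ker_theta [Fintype K] (ha : chkAdj D T = true)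
    (hinj : Function.Injective (G.hbPi K ha)) {U V Ui Vi : List (List ℤ)} {d : List ℕ}
    (hsm : chkSmith D T U V Ui Vi d = true) :
    Nat.card ↥(G.theta K).ker =
      ∏ a ∈ Finset.range D.rank, Nat.gcd (Fintype.card K - 1) (d.getD a 0) := by
  classical
  have hth : ∀ c, ((G.theta K (G.hbPi K ha c) : ↥(D.group K)) : GL D.Idx K) = G.torHom K c :=
    fun c => DFunLike.congr_fun (G.th_hbPi ha) c
  let Φ : ↥(G.torHom K).ker → ↥(G.theta K).ker := fun c =>
    ⟨G.hbPi K ha c.1, MonoidHom.mem_ker.2 (Subtype.ext ((hth c.1).trans c.2))⟩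
  have hΦ : Function.Bijective Φ := by
    refine ⟨fun a b e => Subtype.ext (hinj (congrArg Subtype.val e)), fun z => ?_⟩
    obtain ⟨c, hc⟩ := G.ker_le_hbPi ha z.2
    refine ⟨⟨c, MonoidHom.mem_ker.2 ?_⟩, Subtype.ext hc⟩
    rw [← hth, hc, MonoidHom.mem_ker.1 z.2]; rfl
  rw [← Nat.card_congr (Equiv.ofBijective Φ hΦ)]
  have h1 := Subgroup.card_mul_index (G.torHom K).ker
  rw [Subgroup.index_ker, G.torHom_range, Nat.card_pi, Finset.prod_const, Finset.card_univ,
    Fintype.card_fin, Nat.card_units, Nat.card_eq_fintype_card (α := K), ← G.card_diag hsm] at h1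
  refine Nat.eq_of_mul_eq_mul_right (Nat.pos_of_ne_zero fun h0 => ?_) h1
  have h2 := G.card_diag (F := K) hsm
  rw [h0, mul_zero] at h2
  exact pow_ne_zero _ (by have := Fintype.one_lt_card (α := K); omega) h2.symm

/-- A kernel of prime or trivial order is cyclic. -/
theorem group_multiplier_gcd [Fintype K] (ha : chkAdj D T = true)
    (hperf : commutator (D.SteinbergCover K) = ⊤) (hL : G.Lifts K) {n : ℕ} {m : ℕ}
    (hn : n.Prime) (hc : Nat.card ↥(G.theta K).ker = Nat.gcd n m) :
    Cfsg.HasCyclicSchurMultiplier ↥(D.group K) (Nat.gcd n m) := by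
  haveI : NeZero (Nat.gcd n m) := ⟨(Nat.gcd_pos_of_pos_left m hn.pos).ne'⟩
  haveI : IsCyclic ↥(G.theta K).ker := by
    rcases (Nat.dvd_prime hn).1 (Nat.gcd_dvd_left n m) with h | h
    · haveI : Subsingleton ↥(G.theta K).ker := (Nat.card_eq_one_iff_unique.1 (hc.trans h)).1
      exact isCyclic_of_subsingleton
    · haveI := Fact.mk hn
      exact isCyclic_of_prime_card (hc.trans h)
  refine G.group_multiplier ha hperf hL (mulEquivOfCyclicCardEq ?_)
  rw [hc]
  exact ((Nat.card_congr Multiplicative.toAdd).trans (Nat.card_zmod _)).symm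

end Good

theorem center_card_E6 {K : Type*} [Field K] [Fintype K] :
    Nat.card ↥(goodE6.theta K).ker = Nat.gcd 3 (Fintype.card K - 1) := by
  rw [goodE6.card_ker_theta adjE6 (goodE6.hbPi_injective adjE6 embE6_chk) smithE6,
    show Finset.range chevE6.rank = Finset.range 6 from rfl]
  simp only [Finset.prod_range_succ, Finset.prod_range_zero, List.getD_cons_zero,
    List.getD_cons_succ, Nat.gcd_one_right, one_mul]
  exact Nat.gcd_comm _ _

theorem center_card_E7 {K : Type*} [Field K] [Fintype K] :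
    Nat.card ↥(goodE7.theta K).ker = Nat.gcd 2 (Fintype.card K - 1) := by
  rw [goodE7.card_ker_theta adjE7 (goodE7.hbPi_injective adjE7 embE7_chk) smithE7,
    show Finset.range chevE7.rank = Finset.range 7 from rfl]
  simp only [Finset.prod_range_succ, Finset.prod_range_zero, List.getD_cons_zero,
    List.getD_cons_succ, Nat.gcd_one_right, one_mul]
  exact Nat.gcd_comm _ _

end Cfsg.Agent.Lib.Chev
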