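import Cfsg.Agent.Lib.Chev.Mult.Basic

/-!
Lifting of the root elements to central extensions for simply laced systems of large rank, over any
field.
-/

set_option autoImplicit false
set_option linter.unusedSectionVars false

namespace Cfsg.Agent.Lib.Chev

open Cfsg.Lie
open scoped Matrix commutatorElement

universe u

/-- Independent roots without sum. -/
def okP (D : ChevalleyDatum) (T : Tables) (r s : ℕ) : Bool :=
  (s != r) && (s != ng D r) && (T.terms r s).isEmpty

/-- The sum of two roots is the given root, in the simply laced sense. -/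
def sumP (D : ChevalleyDatum) (T : Tables) (r s m : ℕ) : Bool :=
  (s != r) && (s != ng D r) &&
    match T.terms r s with
    | [(k, C, a, b)] => (k == m) && (C * C == 1) && (a == 1) && (b == 1) &&
        okP D T r m && okP D T s m
    | _ => false

/-- The head root of the terms. -/
def hd (D : ChevalleyDatum) (T : Tables) (r s : ℕ) : ℕ :=
  match (T.terms r s).head? with
  | some c => c.1
  | none => D.nroots

/-- First component of the base decomposition of a fundamental root. -/
def canR (D : ChevalleyDatum) (T : Tables) (i : ℕ) : ℕ :=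
  ((List.range D.nroots).find? fun r =>
    (r != sim D i) && (r != ng D (sim D i)) && !(T.terms (sim D i) (ng D r)).isEmpty).getD 0

/-- Second component of the base decomposition of a fundamental root. -/
def canS (D : ChevalleyDatum) (T : Tables) (i : ℕ) : ℕ :=
  hd D T (sim D i) (ng D (canR D T i))

/-- A pair moves to the base decomposition. -/
def moveP (D : ChevalleyDatum) (T : Tables) (m r0 s0 r s : ℕ) : Bool :=
  let z := hd D T r (ng D r0)
  decide (z < D.nroots) && sumP D T r0 z r && sumP D T z s s0 && okP D T r0 s && okP D T z s0 &&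
    okP D T s s0 && okP D T r s0 && okP D T m s0

/-- The conditions on a pair. -/
def pairP (D : ChevalleyDatum) (T : Tables) (r s : ℕ) : Bool :=
  (s == r) || (s == ng D r) || (T.terms r s).isEmpty ||
    match T.terms r s with
    | [(m, _, _, _)] => sumP D T r s m && allLt D.rank fun i =>
        (m != sim D i) || (r == canR D T i && s == canS D T i) ||
          (r == canS D T i && s == canR D T i) || moveP D T m (canR D T i) (canS D T i) r s || moveP D T m (canR D T i) (canS D T i) s r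
    | _ => false

/-- The conditions on a root commuting with a fundamental root. -/
def baseP (D : ChevalleyDatum) (T : Tables) (i s : ℕ) : Bool :=
  let r := sim D i
  (s == ng D r) || (s != r && !((T.terms r s).isEmpty)) || anyLt D.nroots fun x =>
    let z := hd D T s (ng D x)
    okP D T r x && decide (z < D.nroots) && okP D T r z && sumP D T x z s

/-- All conditions. -/
def chkLaced (D : ChevalleyDatum) (T : Tables) : Bool :=
  allLt D.rank (fun i => decide (canR D T i < D.nroots) && decide (canS D T i < D.nroots) &&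
    sumP D T (canR D T i) (canS D T i) (sim D i) &&
    (anyLt D.nroots fun r =>
      decide (hd D T (sim D i) (ng D r) < D.nroots) &&
        sumP D T r (hd D T (sim D i) (ng D r)) (sim D i) &&
        moveP D T (sim D i) (canR D T i) (canS D T i) r (hd D T (sim D i) (ng D r))) &&
    allLt D.nroots fun s => baseP D T i s) &&
  allLt D.nroots fun r => allLt D.nroots fun s => pairP D T r s

theorem comm_mul_left {P : Type*} [Group P] {a a' b : P} (h : Commute a ⁅a', b⁆) :
    ⁅a * a', b⁆ = ⁅a', b⁆ * ⁅a, b⁆ := by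
  calc ⁅a * a', b⁆ = (a * ⁅a', b⁆ * a⁻¹) * ⁅a, b⁆ := by simp only [commutatorElement_def]; group
    _ = _ := by rw [h.eq, mul_inv_cancel_right]

theorem comm_mul_right {P : Type*} [Group P] {a b b' : P} (h : Commute b ⁅a, b'⁆) :
    ⁅a, b * b'⁆ = ⁅a, b⁆ * ⁅a, b'⁆ := by
  calc ⁅a, b * b'⁆ = ⁅a, b⁆ * (b * ⁅a, b'⁆ * b⁻¹) := by simp only [commutatorElement_def]; group
    _ = _ := by rw [h.eq, mul_inv_cancel_right]

/-- The commutator identity behind the moves. -/
theorem move_identity {P : Type*} [Group P] {A B C : P} (hAC : Commute A C)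
    (hRE : Commute ⁅A, B⁆ ⁅B, C⁆)
    (hME : Commute ⁅A, ⁅B, C⁆⁆ ⁅B, C⁆) : ⁅⁅A, B⁆, C⁆ = ⁅A, ⁅B, C⁆⁆ := by
  set E := ⁅B, C⁆ with hE
  set R := ⁅A, B⁆ with hR
  have e1 : C * B * C⁻¹ = E⁻¹ * B := by
    rw [hE, commutatorElement_def]; group
  have e3 : ⁅A, E⁻¹⁆ = ⁅A, E⁆⁻¹ := by
    have h : ⁅A, E⁻¹⁆ = E⁻¹ * ⁅A, E⁆⁻¹ * E := by simp only [commutatorElement_def]; group
    rw [h, hME.inv_left.symm.inv_left.eq, inv_mul_cancel_right]
  have e2 : C * R * C⁻¹ = ⁅A, E⁆⁻¹ * R := by
    have h : C * R * C⁻¹ = ⁅C * A * C⁻¹, C * B * C⁻¹⁆ := by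
      rw [hR]; simp only [commutatorElement_def]; group
    rw [h, e1, hAC.symm.eq, mul_inv_cancel_right, comm_mul_right hRE.symm.inv_left, e3]
  calc ⁅R, C⁆ = R * (C * R * C⁻¹)⁻¹ := by simp only [commutatorElement_def]; group
    _ = _ := by rw [e2]; group

variable {D : ChevalleyDatum} {T : Tables} {K : Type u} [Field K]

namespace Good

variable (G : Good D T)
include G

/-- The images of the root groups commute. -/
def IC (K : Type u) [Field K] (r s : ℕ) : Prop :=
  s ≠ ng D r ∧ ∀ t u : K, Commute (G.X K r t) (G.X K s u)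

theorem X_commutator {r s : ℕ} (hr : r < D.nroots) (hs : s < D.nroots) (h1 : s ≠ r)
    (h2 : s ≠ ng D r) (t u : K) :
    G.X K r t * G.X K s u * (G.X K r t)⁻¹ = G.X K s u * G.wordG (cw T r s (-t) u) := by
  rw [mul_assoc, G.X_inv, G.commAt r s hr hs h1 h2 (-t) u, mul_assoc (G.X K r (-t)),
    ← mul_assoc, G.X_add, add_neg_cancel, G.X_zero, one_mul]

theorem ic_of_okP {r s : ℕ} (hr : r < D.nroots) (hs : s < D.nroots) (h : okP D T r s = true) :
    G.IC K r s := by
  simp only [okP, Bool.and_eq_true, bne_iff_ne, ne_eq, List.isEmpty_iff] at h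
  refine ⟨h.1.2, fun t u => ?_⟩
  have h' := G.commAt r s hr hs h.1.1 h.1.2 t u
  rw [show G.wordG (cw T r s t u) = 1 from by simp [cw, h.2, Good.wordG], mul_one] at h'
  exact h'.symm

/-- `s` and `r` have sum `m`. -/
def IS (K : Type u) [Field K] (r s m : ℕ) : Prop :=
  r < D.nroots ∧ s < D.nroots ∧ m < D.nroots ∧ s ≠ r ∧ s ≠ ng D r ∧ G.IC K r m ∧ G.IC K s m ∧
    ∃ ε : K, ε ≠ 0 ∧ ∀ t u, ⁅G.X K r t, G.X K s u⁆ = G.X K m (ε * t * u)

theorem sumP_spec {r s m : ℕ} (hr : r < D.nroots) (hs : s < D.nroots)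
    (h : sumP D T r s m = true) :
    G.IS K r s m ∧ ∃ C : ℤ, T.terms r s = [(m, C, 1, 1)] ∧ C * C = 1 := by
  simp only [sumP] at h
  split at h
  case h_2 => simp at h
  case h_1 k C a b hT =>
    simp only [Bool.and_eq_true, bne_iff_ne, ne_eq, beq_iff_eq] at h
    obtain ⟨⟨h1, h2⟩, ⟨⟨⟨⟨hk, hC⟩, ha⟩, hb⟩, o1⟩, o2⟩ := h
    subst hk ha hb
    have hm : k < D.nroots := (G.mem_terms hr hs (hT ▸ List.mem_singleton_self _)).1
    have i1 := G.ic_of_okP (K := K) hr hm o1
    have i2 := G.ic_of_okP (K := K) hs hm o2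
    have hC0 : (C : K) * C = 1 := by rw [← Int.cast_mul, hC, Int.cast_one]
    refine ⟨⟨hr, hs, hm, h1, h2, i1, i2, C, left_ne_zero_of_mul_eq_one hC0, fun t u => ?_⟩,
      C, hT, hC⟩
    have hw : G.wordG (cw T r s (-t) u) = G.X K k ((C : K) * t * u) := by
      simp [cw, hT, Good.wordG, Good.X]
    rw [commutatorElement_def, G.X_commutator hr hs h1 h2, hw, (i2.2 u _).eq,
      mul_inv_cancel_right]

theorem is_symm {r s m : ℕ} (h : G.IS K r s m) : G.IS K s r m := by
  obtain ⟨hr, hs, hm, h1, h2, i1, i2, ε, hε, he⟩ := h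
  refine ⟨hs, hr, hm, Ne.symm h1, fun e => h2 (by rw [e, G.ng_ng hs]), i2, i1, -ε,
    neg_ne_zero.2 hε, fun t u => ?_⟩
  rw [← commutatorElement_inv, he, G.X_inv]
  congr 1
  ring

theorem is_nonempty {r s m : ℕ} (h : G.IS K r s m) :
    ∃ C : ℤ, T.terms r s ≠ [] ∧ C = 1 := by
  obtain ⟨hr, hs, hm, h1, h2, -, -, ε, hε, he⟩ := h
  refine ⟨1, fun hT => ?_, rfl⟩
  have h' := G.commAt r s hr hs h1 h2 (1 : K) 1
  rw [show G.wordG (cw T r s (1 : K) 1) = 1 from by simp [cw, hT, Good.wordG], mul_one] at h'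
  have e := he 1 1
  rw [commutatorElement_eq_one_iff_commute.2 (show Commute _ _ from h'.symm), mul_one, mul_one,
    eq_comm, G.X_eq_one_iff hm] at e
  exact hε e

theorem ic_w {i r s : ℕ} (hi : i < D.rank) (hr : r < D.nroots) (hs : s < D.nroots)
    (h : G.IC K r s) : G.IC K (T.w i r) (T.w i s) := by
  refine ⟨fun e => h.1 (by rw [← G.w_w hi hs, e, ← G.w_ng hi hr, G.w_w hi (G.ng_lt hr)]),
    fun t u => ?_⟩
  have e : ∀ {a : ℕ}, a < D.nroots → ∀ v : K,
      G.ni K i * G.X K a ((T.eta i a : K) * v) * (G.ni K i)⁻¹ = G.X K (T.w i a) v := fun ha v => by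
    rw [G.ni_conj_X hi ha, ← mul_assoc, ← Int.cast_mul, Tables.eta_mul_self, Int.cast_one,
      one_mul]
  rw [← e hr t, ← e hs u]
  exact (h.2 _ _).conj _

theorem is_w {i r s m : ℕ} (hi : i < D.rank) (h : G.IS K r s m) :
    G.IS K (T.w i r) (T.w i s) (T.w i m) := by
  obtain ⟨hr, hs, hm, h1, h2, i1, i2, ε, hε, he⟩ := h
  have e : ∀ {a : ℕ}, a < D.nroots → ∀ v : K,
      G.ni K i * G.X K a ((T.eta i a : K) * v) * (G.ni K i)⁻¹ = G.X K (T.w i a) v := fun ha v => by
    rw [G.ni_conj_X hi ha, ← mul_assoc, ← Int.cast_mul, Tables.eta_mul_self, Int.cast_one,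
      one_mul]
  have hne : ∀ a, (T.eta i a : K) ≠ 0 := fun a => by
    rcases T.eta_eq_or i a with e | e <;> simp [e]
  refine ⟨G.w_lt hi hr, G.w_lt hi hs, G.w_lt hi hm, ?_, ?_, G.ic_w hi hr hm i1,
    G.ic_w hi hs hm i2, (T.eta i m : K) * ε * (T.eta i r : K) * (T.eta i s : K),
    mul_ne_zero (mul_ne_zero (mul_ne_zero (hne m) hε) (hne r)) (hne s), fun t u => ?_⟩
  · intro e'; exact h1 (by rw [← G.w_w hi hs, e', G.w_w hi hr])
  · intro e'
    exact h2 (by rw [← G.w_w hi hs, e', ← G.w_ng hi hr, G.w_w hi (G.ng_lt hr)])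
  · have h3 : ⁅G.X K (T.w i r) t, G.X K (T.w i s) u⁆ =
        G.ni K i * ⁅G.X K r ((T.eta i r : K) * t), G.X K s ((T.eta i s : K) * u)⁆ *
          (G.ni K i)⁻¹ := by
      rw [← e hr t, ← e hs u]; simp only [commutatorElement_def]; group
    rw [h3, he, G.ni_conj_X hi hm]
    congr 1
    ring

variable {P : Type u} [Group P] (q : P →* GL D.Idx K)

/-- Lifts of commuting root elements commute, for a given first root. -/
def PC (r : ℕ) : Prop :=
  ∀ s, s < D.nroots → G.IC K r s →
    ∀ a b : P, ∀ t u, q a = G.X K r t → q b = G.X K s u → Commute a b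

/-- Commutators of lifts with a given sum depend only on their image. -/
def Coh (m : ℕ) : Prop :=
  ∀ r s r' s', G.IS K r s m → G.IS K r' s' m → ∀ a b a' b' : P, ∀ t u t' u',
    q a = G.X K r t → q b = G.X K s u → q a' = G.X K r' t' → q b' = G.X K s' u' →
      q ⁅a, b⁆ = q ⁅a', b'⁆ → ⁅a, b⁆ = ⁅a', b'⁆

theorem laced_pairs (h : chkLaced D T = true) {r s : ℕ} (hr : r < D.nroots) (hs : s < D.nroots)
    (h1 : s ≠ r) (h2 : s ≠ ng D r) (hT : T.terms r s ≠ []) :
    ∃ m, sumP D T r s m = true ∧ ∀ i < D.rank, m = sim D i →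
      (r = canR D T i ∧ s = canS D T i) ∨ (r = canS D T i ∧ s = canR D T i) ∨ moveP D T m (canR D T i) (canS D T i) r s = true ∨
        moveP D T m (canR D T i) (canS D T i) s r = true := by
  simp only [chkLaced, Bool.and_eq_true] at h
  have h' := allLt_eq_true (allLt_eq_true h.2 r hr) s hs
  simp only [pairP, Bool.or_eq_true, beq_iff_eq, List.isEmpty_iff] at h'
  rcases h' with ((h' | h') | h') | h'
  · exact absurd h' h1
  · exact absurd h' h2
  · exact absurd h' hT
  split at h'
  case h_2 => simp at h'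
  case h_1 m C a b hm =>
    simp only [Bool.and_eq_true] at h'
    refine ⟨m, h'.1, fun i hi e => ?_⟩
    have := allLt_eq_true h'.2 i hi
    simp only [Bool.or_eq_true, bne_iff_ne, ne_eq, Bool.and_eq_true, beq_iff_eq] at this
    rcases this with (((h3 | h3) | h3) | h3) | h3
    · exact absurd e h3
    · exact Or.inl h3
    · exact Or.inr (Or.inl h3)
    · exact Or.inr (Or.inr (Or.inl h3))
    · exact Or.inr (Or.inr (Or.inr h3))

theorem laced_pc (h : chkLaced D T = true) (hq : q.ker ≤ Subgroup.center P)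
    (hr : D.group K ≤ q.range) : ∀ r < D.nroots, G.PC q r := by
  have hX : ∀ {r}, r < D.nroots → ∀ t : K, ∃ a, q a = G.X K r t := fun h t =>
    hr (G.X_mem_group h t)
  refine G.root_induction ?_ ?_
  · intro i hi s hs hic a b t u hqa hqb
    have hne := hic.1
    have hr0 := G.sim_lt hi
    have hc := h
    simp only [chkLaced, Bool.and_eq_true] at hc
    have hi' := allLt_eq_true hc.1 i hi
    simp only [Bool.and_eq_true] at hi'
    have hbase := allLt_eq_true hi'.2 s hs
    simp only [baseP, Bool.or_eq_true, beq_iff_eq] at hbase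
    rcases hbase with (hb | hb) | hb
    · exact absurd hb hne
    · exfalso
      simp only [Bool.and_eq_true, bne_iff_ne, ne_eq, Bool.not_eq_true'] at hb
      obtain ⟨hsr, hb⟩ := hb
      rw [← Bool.not_eq_true, List.isEmpty_iff] at hb
      obtain ⟨m, hm, -⟩ := G.laced_pairs h hr0 hs hsr hne hb
      obtain ⟨⟨-, -, hm', -, -, -, -, ε, hε, he⟩, -⟩ := G.sumP_spec (K := K) hr0 hs hm
      have e := he 1 1
      rw [commutatorElement_eq_one_iff_commute.2 (hic.2 1 1), mul_one, mul_one, eq_comm,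
        G.X_eq_one_iff hm'] at e
      exact hε e
    · obtain ⟨x, hx, hxx⟩ := anyLt_eq_true hb
      simp only [Bool.and_eq_true, decide_eq_true_eq] at hxx
      obtain ⟨⟨⟨ox, hz⟩, oz⟩, hsum⟩ := hxx
      set z := hd D T s (ng D x)
      obtain ⟨⟨-, -, -, -, -, -, -, ε, hε, he⟩, -⟩ := G.sumP_spec (K := K) hx hz hsum
      obtain ⟨A, hA⟩ := hX hx (u / ε)
      obtain ⟨B, hB⟩ := hX hz (1 : K)
      have hqAB : q ⁅A, B⁆ = q b := by
        rw [map_commutatorElement, hA, hB, he, hqb]
        congr 1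
        field_simp
      have fix1 : ∀ (p : P) (w : K) (j : ℕ), q p = G.X K j w → G.IC K (sim D i) j →
          ∃ c ∈ Subgroup.center P, a * p * a⁻¹ = c * p := fun p w j hp hj => by
        refine ⟨a * p * a⁻¹ * p⁻¹, hq ?_, by group⟩
        rw [MonoidHom.mem_ker, map_mul, map_mul, map_mul, map_inv, map_inv, hqa, hp, (hj.2 t w).eq]
        group
      have hb2 : Commute a ⁅A, B⁆ := by
        obtain ⟨c, hc, ec⟩ := fix1 A _ _ hA (G.ic_of_okP hr0 hx ox)
        obtain ⟨d, hd, ed⟩ := fix1 B _ _ hB (G.ic_of_okP hr0 hz oz)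
        have hcomm : a * ⁅A, B⁆ * a⁻¹ = ⁅A, B⁆ := by
          rw [show a * ⁅A, B⁆ * a⁻¹ = ⁅a * A * a⁻¹, a * B * a⁻¹⁆ by
            simp only [commutatorElement_def]; group, ec, ed]
          have qeq : ∀ (c : P), c ∈ Subgroup.center P → ∀ y : P, ∀ g, g * c = c * g := fun c hc y =>
            Subgroup.mem_center_iff.1 hc
          simp only [commutatorElement_def]
          have cz : ∀ g, g * c = c * g := Subgroup.mem_center_iff.1 hc
          have cw : ∀ g, g * d = d * g := Subgroup.mem_center_iff.1 hd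
          calc c * A * (d * B) * (c * A)⁻¹ * (d * B)⁻¹
              = c * (A * d) * B * A⁻¹ * c⁻¹ * B⁻¹ * d⁻¹ := by group
            _ = (c * d) * (A * B * A⁻¹) * c⁻¹ * B⁻¹ * d⁻¹ := by rw [cw A]; group
            _ = d * c * (A * B * A⁻¹) * c⁻¹ * B⁻¹ * d⁻¹ := by rw [cw c]
            _ = d * ((A * B * A⁻¹) * c) * c⁻¹ * B⁻¹ * d⁻¹ := by rw [cz (A * B * A⁻¹)]; group
            _ = d * (A * B * A⁻¹ * B⁻¹) * d⁻¹ := by group
            _ = _ := by rw [← cw (A * B * A⁻¹ * B⁻¹), mul_inv_cancel_right]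
        exact mul_inv_eq_iff_eq_mul.1 hcomm
      have hz' : b * ⁅A, B⁆⁻¹ ∈ Subgroup.center P := hq (by
        rw [MonoidHom.mem_ker, map_mul, map_inv, hqAB, mul_inv_cancel])
      have : b = b * ⁅A, B⁆⁻¹ * ⁅A, B⁆ := by group
      rw [this]
      exact (show Commute a (b * ⁅A, B⁆⁻¹) from Subgroup.mem_center_iff.1 hz' a).mul_right hb2
  · intro i r hi hr' ih s hs hic a b t u hqa hqb
    obtain ⟨n, hn⟩ := hr (G.ni_mem_group (F := K) hi)
    have key : ∀ p s' v, s' < D.nroots → q p = G.X K s' v →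
        q (n⁻¹ * p * n) = G.X K (T.w i s') ((T.eta i (T.w i s') : K) * v) := by
      intro p s' v hs' hp
      rw [map_mul, map_mul, map_inv, hn, hp]
      have e := G.ni_conj_X (F := K) hi (G.w_lt hi hs') ((T.eta i (T.w i s') : K) * v)
      rw [G.w_w hi hs', ← mul_assoc, ← Int.cast_mul, Tables.eta_mul_self, Int.cast_one,
        one_mul] at e
      rw [← e]; group
    have h1 := key a _ _ (G.w_lt hi hr') hqa
    rw [G.w_w hi hr'] at h1
    have hic' : G.IC K r (T.w i s) := by
      have := G.ic_w hi (G.w_lt hi hr') hs hic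
      rwa [G.w_w hi hr'] at this
    have hcom := ih _ (G.w_lt hi hs) hic' _ _ _ _ h1 (key b s u hs hqb)
    have e : ∀ p, p = n * (n⁻¹ * p * n) * n⁻¹ := fun p => by group
    rw [e a, e b]
    exact hcom.conj n

theorem laced_commute (h : chkLaced D T = true) (hq : q.ker ≤ Subgroup.center P)
    (hr : D.group K ≤ q.range) {r s : ℕ} (hr' : r < D.nroots) (hs : s < D.nroots)
    (hic : G.IC K r s) {a b : P} {t u : K} (hqa : q a = G.X K r t)
    (hqb : q b = G.X K s u) : Commute a b :=
  G.laced_pc q h hq hr r hr' s hs hic a b t u hqa hqb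

theorem laced_coh (h : chkLaced D T = true) (hq : q.ker ≤ Subgroup.center P)
    (hr : D.group K ≤ q.range) : ∀ m < D.nroots, G.Coh q m := by
  have hX : ∀ {r}, r < D.nroots → ∀ t : K, ∃ a, q a = G.X K r t := fun h t =>
    hr (G.X_mem_group h t)
  have fixc : ∀ {a b a' b' : P}, q a = q a' → q b = q b' → ⁅a, b⁆ = ⁅a', b'⁆ := fun h h' =>
    comm_eq_of_q hq h h'
  refine G.root_induction ?_ ?_
  · intro i hi
    have hm := G.sim_lt hi
    have hc := h
    simp only [chkLaced, Bool.and_eq_true] at hc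
    have hi' := allLt_eq_true hc.1 i hi
    simp only [Bool.and_eq_true, decide_eq_true_eq] at hi'
    obtain ⟨⟨⟨⟨hr0, hs0⟩, hcan⟩, hsome⟩, -⟩ := hi'
    set m := sim D i
    set r0 := canR D T i
    set s0 := canS D T i
    obtain ⟨is0, -⟩ := G.sumP_spec (K := K) hr0 hs0 hcan
    obtain ⟨-, -, -, -, -, i1, i2, ε0, hε0, he0⟩ := is0
    obtain ⟨E1, hE1⟩ := hX hs0 (1 : K)
    choose A hA using fun t : K => hX hr0 t
    choose E hE using fun t : K => hX hs0 t
    set f : K → P := fun w => ⁅A 1, E w⁆ with hf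
    have fq : ∀ w, q (f w) = G.X K m (ε0 * w) := fun w => by
      rw [hf, map_commutatorElement, hA, hE, he0, mul_one]
    -- the move
    have move : ∀ r s, r < D.nroots → s < D.nroots → G.IS K r s m →
        moveP D T m r0 s0 r s = true → ∃ κ : K, κ ≠ 0 ∧ ∀ a b t u,
          q a = G.X K r t → q b = G.X K s u →
            ∀ τ : K, τ ≠ 0 → ⁅a, b⁆ = ⁅A τ, E (κ * t * u / τ)⁆ := by
      intro r s hr' hs hsum hmv
      simp only [moveP, Bool.and_eq_true, decide_eq_true_eq] at hmv
      obtain ⟨⟨⟨⟨⟨⟨⟨hz, hs1⟩, hs2⟩, o1⟩, o2⟩, o3⟩, o4⟩, o5⟩ := hmv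
      set z := hd D T r (ng D r0)
      obtain ⟨⟨-, -, -, -, -, -, -, ε1, hε1, he1⟩, -⟩ := G.sumP_spec (K := K) hr0 hz hs1
      obtain ⟨⟨-, -, -, -, -, -, -, ε2, hε2, he2⟩, -⟩ := G.sumP_spec (K := K) hz hs hs2
      refine ⟨ε2 / ε1, div_ne_zero hε2 hε1, fun a b t u hqa hqb τ hτ => ?_⟩
      obtain ⟨B, hB⟩ := hX hz (t / (ε1 * τ))
      have hR : q ⁅A τ, B⁆ = q a := by
        rw [map_commutatorElement, hA, hB, he1, hqa]; congr 1; field_simp
      have hEq : q ⁅B, b⁆ = q (E (ε2 / ε1 * t * u / τ)) := by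
        rw [map_commutatorElement, hqb, hB, he2, hE]; congr 1; field_simp
      have lc := fun {x y : ℕ} (hx : x < D.nroots) (hy : y < D.nroots)
        (hxy : okP D T x y = true) {a b : P} {t u : K} (hqa : q a = G.X K x t)
        (hqb : q b = G.X K y u) =>
        G.laced_commute q h hq hr hx hy (G.ic_of_okP hx hy hxy) hqa hqb
      have qE : q ⁅B, b⁆ = G.X K s0 (ε2 / ε1 * t * u / τ) := by rw [hEq, hE]
      have qM : q ⁅A τ, ⁅B, b⁆⁆ = G.X K m (ε0 * τ * (ε2 / ε1 * t * u / τ)) := by
        rw [map_commutatorElement, hA, qE, he0]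
      have key := move_identity (A := A τ) (B := B) (C := b) (lc hr0 hs o1 (hA τ) hqb)
        (lc hr' hs0 o4 (hR.trans hqa) qE) (lc hm hs0 o5 qM qE)
      rw [fixc hR.symm (rfl : q b = q b), key]
      exact fixc rfl hEq
    obtain ⟨rm, hrm, hmv⟩ := anyLt_eq_true hsome
    simp only [Bool.and_eq_true, decide_eq_true_eq] at hmv
    obtain ⟨⟨hsm, hsum⟩, hmv⟩ := hmv
    set sm := hd D T m (ng D rm)
    obtain ⟨κ, hκ, hmove⟩ := move rm sm hrm hsm (G.sumP_spec hrm hsm hsum).1 hmv
    -- the base pair only depends on the product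
    have base : ∀ τ w : K, ⁅A τ, E w⁆ = f (τ * w) := by
      intro τ w
      by_cases hτ : τ = 0
      · have e1 : ⁅A τ, E w⁆ = 1 := by
          rw [fixc (a' := (1 : P)) (b' := E w) (by rw [hA, hτ, G.X_zero, map_one]) rfl]
          simp
        have e2 : f (τ * w) = 1 := by
          rw [hf]; dsimp only
          rw [fixc (a' := A 1) (b' := (1 : P)) rfl (by rw [hE, hτ, zero_mul, G.X_zero, map_one])]
          simp
        rw [e1, e2]
      · obtain ⟨a, ha⟩ := hX hrm (1 : K)
        obtain ⟨b, hb⟩ := hX hsm (τ * w / κ)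
        have h1 := hmove a b _ _ ha hb τ hτ
        have h2 := hmove a b _ _ ha hb 1 one_ne_zero
        rw [h2] at h1
        have e3 : κ * 1 * (τ * w / κ) / τ = w := by field_simp
        have e4 : κ * 1 * (τ * w / κ) / 1 = τ * w := by field_simp
        rw [e3, e4] at h1
        exact h1.symm
    have fneg : ∀ w, (f w)⁻¹ = f (-w) := fun w => by
      refine inv_eq_of_mul_eq_one_right ?_
      have hcm : Commute (E w) ⁅A 1, E (-w)⁆ :=
        G.laced_commute q h hq hr hs0 hm i2
          (hE w) (fq (-w))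
      rw [hf]; dsimp only
      rw [← comm_mul_right hcm, fixc (a' := A 1) (b' := (1 : P)) rfl (by
        rw [map_mul, hE, hE, G.X_add, add_neg_cancel, G.X_zero, map_one])]
      simp
    have land : ∀ r s, G.IS K r s m → ∀ a b t u, q a = G.X K r t → q b = G.X K s u →
        ∃ w, ⁅a, b⁆ = f w := by
      intro r s hsum a b t u hqa hqb
      obtain ⟨hr', hs, -, h1, h2, -⟩ := id hsum
      obtain ⟨-, hT, -⟩ := G.is_nonempty hsum
      obtain ⟨m', hm', hcases⟩ := G.laced_pairs h hr' hs h1 h2 hT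
      obtain ⟨⟨-, -, hm'', -, -, -, -, ε', hε', he'⟩, -⟩ := G.sumP_spec (K := K) hr' hs hm'
      obtain ⟨-, -, -, -, -, -, -, ε, hε, he⟩ := id hsum
      have hmm : m' = m := G.X_root_inj hm'' hm (t := ε' * 1 * 1) (u := ε * 1 * 1)
        (by simpa using hε') (by rw [← he' 1 1, ← he 1 1])
      subst hmm
      rcases hcases i hi rfl with ⟨e1, e2⟩ | ⟨e1, e2⟩ | hmv' | hmv'
      · refine ⟨t * u, ?_⟩
        rw [← base t u]
        exact fixc (by rw [hqa, hA, e1]) (by rw [hqb, hE, e2])
      · refine ⟨-(u * t), ?_⟩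
        rw [← fneg, ← base u t, commutatorElement_inv]
        exact fixc (by rw [hqa, hE, e1]) (by rw [hqb, hA, e2])
      · obtain ⟨κ', -, hmove'⟩ := move r s hr' hs hsum hmv'
        exact ⟨_, (hmove' a b t u hqa hqb 1 one_ne_zero).trans (base 1 _)⟩
      · obtain ⟨κ', -, hmove'⟩ := move s r hs hr' (G.is_symm hsum) hmv'
        refine ⟨-(1 * (κ' * u * t / 1)), ?_⟩
        rw [← fneg, ← base, ← hmove' b a u t hqb hqa 1 one_ne_zero, commutatorElement_inv]
    intro r s r' s' hsum hsum' a b a' b' t u t' u' ha hb ha' hb' e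
    obtain ⟨w, hw⟩ := land r s hsum a b t u ha hb
    obtain ⟨w', hw'⟩ := land r' s' hsum' a' b' t' u' ha' hb'
    rw [hw, hw', fq, fq] at e
    rw [hw, hw', mul_left_cancel₀ hε0 (G.X_injective hm e)]
  · intro i m hi hm ih r s r' s' hsum hsum' a b a' b' t u t' u' ha hb ha' hb' e
    obtain ⟨n, hn⟩ := hr (G.ni_mem_group (F := K) hi)
    have key : ∀ p s' v, s' < D.nroots → q p = G.X K s' v →
        q (n⁻¹ * p * n) = G.X K (T.w i s') ((T.eta i (T.w i s') : K) * v) := by
      intro p s' v hs' hp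
      rw [map_mul, map_mul, map_inv, hn, hp]
      have e := G.ni_conj_X (F := K) hi (G.w_lt hi hs') ((T.eta i (T.w i s') : K) * v)
      rw [G.w_w hi hs', ← mul_assoc, ← Int.cast_mul, Tables.eta_mul_self, Int.cast_one,
        one_mul] at e
      rw [← e]; group
    have hback : ∀ {r s : ℕ}, G.IS K r s (T.w i m) → G.IS K (T.w i r) (T.w i s) m := fun hx => by
      have := G.is_w hi hx
      rwa [G.w_w hi hm] at this
    have econj : ∀ x y : P, ⁅n⁻¹ * x * n, n⁻¹ * y * n⁆ = n⁻¹ * ⁅x, y⁆ * n := fun x y => by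
      simp only [commutatorElement_def]; group
    have := ih _ _ _ _ (hback hsum) (hback hsum') _ _ _ _ _ _ _ _ (key a r t hsum.1 ha)
      (key b s u hsum.2.1 hb) (key a' r' t' hsum'.1 ha') (key b' s' u' hsum'.2.1 hb') (by
        rw [econj, econj, map_mul, map_mul, map_mul, map_mul, e])
    rw [econj, econj] at this
    exact mul_left_cancel (mul_right_cancel this)

/-- The root elements lift to every central extension. -/
theorem lifts_of_laced (h : chkLaced D T = true) : G.Lifts K := by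
  intro P _ q hq hr
  have hX : ∀ {r}, r < D.nroots → ∀ t : K, ∃ a, q a = G.X K r t := fun h t =>
    hr (G.X_mem_group h t)
  have fixc : ∀ {a b a' b' : P}, q a = q a' → q b = q b' → ⁅a, b⁆ = ⁅a', b'⁆ := fun h h' =>
    comm_eq_of_q hq h h'
  have hex : ∀ m < D.nroots, ∃ r s, G.IS K r s m := by
    refine G.root_induction (fun i hi => ?_) fun i m hi _ ⟨r, s, hrs⟩ => ⟨_, _, G.is_w hi hrs⟩
    have hc := h
    simp only [chkLaced, Bool.and_eq_true] at hc
    have hi' := allLt_eq_true hc.1 i hi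
    simp only [Bool.and_eq_true, decide_eq_true_eq] at hi'
    exact ⟨_, _, (G.sumP_spec hi'.1.1.1.1 hi'.1.1.1.2 hi'.1.1.2).1⟩
  choose r0 s0 hrs using hex
  have hε : ∀ m (hm : m < D.nroots), ∃ ε : K, ε ≠ 0 ∧
      ∀ t u, ⁅G.X K (r0 m hm) t, G.X K (s0 m hm) u⁆ = G.X K m (ε * t * u) := fun m hm =>
    (hrs m hm).2.2.2.2.2.2.2
  choose ε hε0 hεe using hε
  choose A hA using fun m (hm : m < D.nroots) (t : K) =>
    hX (hrs m hm).1 (t / ε m hm)
  choose B hB using fun m (hm : m < D.nroots) => hX (hrs m hm).2.1 (1 : K)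
  classical
  set y : ℕ → K → P := fun m t => if hm : m < D.nroots then ⁅A m hm t, B m hm⁆ else 1 with hy
  have qy : ∀ m, m < D.nroots → ∀ t, q (y m t) = G.X K m t := by
    intro m hm t
    simp only [hy, dif_pos hm, map_commutatorElement, hA, hB, hεe]
    congr 1
    field_simp [hε0 m hm]
  have add : ∀ m, m < D.nroots → ∀ t u, y m t * y m u = y m (t + u) := by
    intro m hm t u
    obtain ⟨hr0, hs0, -, -, -, i1, -, -⟩ := id (hrs m hm)
    have hc : Commute (A m hm u) ⁅A m hm t, B m hm⁆ :=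
      G.laced_commute q h hq hr hr0 hm i1
        (hA m hm u) (by have := qy m hm t; simpa only [hy, dif_pos hm] using this)
    simp only [hy, dif_pos hm]
    rw [← comm_mul_left hc]
    exact fixc (by rw [map_mul, hA, hA, hA, G.X_add, ← add_div, add_comm]) rfl
  have comm : ∀ r s, r < D.nroots → s < D.nroots → s ≠ r → s ≠ ng D r → ∀ t u,
      y s u * y r t = y r t * y s u *
        ((Good.cw T r s t u).map fun p => y p.1 p.2).prod := by
    intro r s hr' hs h1 h2 t u
    by_cases hT : T.terms r s = []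
    · have hic : G.IC K r s := G.ic_of_okP hr' hs (by
        simp [okP, h1, h2, hT])
      have := G.laced_commute q h hq hr hr' hs hic (qy r hr' t) (qy s hs u)
      simp [cw, hT, this.eq]
    · obtain ⟨m, hm, -⟩ := G.laced_pairs h hr' hs h1 h2 hT
      obtain ⟨hsum, C, hC, -⟩ := G.sumP_spec (K := K) hr' hs hm
      have hm' : m < D.nroots := hsum.2.2.1
      have hword : ((Good.cw T r s t u).map fun p => y p.1 p.2).prod =
          ⁅A m hm' ((C : K) * (-t) * u), B m hm'⁆ := by
        simp [cw, hC, hy, hm']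
      have key : ⁅(y s u)⁻¹, (y r t)⁻¹⁆ = ⁅A m hm' ((C : K) * (-t) * u), B m hm'⁆ := by
        refine G.laced_coh q h hq hr m hm' s r (r0 m hm') (s0 m hm') (G.is_symm hsum)
          (hrs m hm') _ _ _ _ (-u) (-t) (((C : K) * (-t) * u) / ε m hm') 1
          (by rw [map_inv, qy s hs, G.X_inv]) (by rw [map_inv, qy r hr', G.X_inv])
          (hA m hm' _) (hB m hm') ?_
        have h3 := G.commAt r s hr' hs h1 h2 t u
        rw [show G.wordG (cw T r s t u) = G.X K m ((C : K) * (-t) * u) from by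
          simp [cw, hC, Good.wordG, Good.X]] at h3
        rw [map_commutatorElement, map_commutatorElement, map_inv, map_inv, qy s hs, qy r hr',
          hA, hB, hεe, commutatorElement_def, inv_inv, inv_inv, mul_assoc _ (G.X K s u), h3]
        rw [show ε m hm' * ((C : K) * (-t) * u / ε m hm') * 1 = (C : K) * (-t) * u by
          field_simp [hε0 m hm']]
        group
      rw [hword, ← key, commutatorElement_def]
      group
  set f : Fin D.nroots × K → P := fun p => y p.1 p.2 with hf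
  have hX' : ∀ r t, r < D.nroots → FreeGroup.lift f (D.stX r t) = y r t := by
    intro r t hr'
    simp [ChevalleyDatum.stX, hr', hf]
  have hW : ∀ w : List (ℕ × K), (∀ p ∈ w, p.1 < D.nroots) →
      FreeGroup.lift f (D.stWord w) = (w.map fun p => y p.1 p.2).prod := by
    intro w hw
    rw [ChevalleyDatum.stWord, map_list_prod, List.map_map]
    exact congrArg List.prod (List.map_congr_left fun p hp => hX' p.1 p.2 (hw p hp))
  have hrel : ∀ g ∈ D.steinbergRelsAB K, FreeGroup.lift f g = 1 := by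
    rintro g (⟨r, t, u, hr', rfl⟩ | ⟨r, s, t, u, hr', hs, h1, h2, rfl⟩)
    · simp only [map_mul, map_inv, hX' _ _ hr', add r hr', mul_inv_cancel]
    · rw [G.neg_eq hr'] at h2
      have hw : ∀ p ∈ D.commWord K r s t u, p.1 < D.nroots := by
        intro p hp
        rw [G.commWord_eq hr' hs] at hp
        obtain ⟨⟨k, C, a, b⟩, hc, rfl⟩ := List.mem_map.1 hp
        exact (G.mem_terms hr' hs hc).1
      simp only [map_mul, map_inv, hX' _ _ hr', hX' _ _ hs, hW _ hw]
      rw [mul_inv_eq_one, G.commWord_eq hr' hs, mul_assoc _ (y s u), comm r s hr' hs h1 h2 t u]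
      group
  refine ⟨PresentedGroup.toGroup hrel, PresentedGroup.ext fun p => ?_⟩
  rw [MonoidHom.comp_apply, PresentedGroup.toGroup.of, hf, qy _ p.1.isLt]
  have e : PresentedGroup.of (rels := D.steinbergRelsAB K) p = c_xb D K p.1.val p.2 := by
    rw [c_xb, ChevalleyDatum.scGen, ChevalleyDatum.stX, dif_pos p.1.isLt]; rfl
  rw [e, G.c_th_xb p.1.isLt]

end Good

end Cfsg.Agent.Lib.Chev
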