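import Cfsg.Agent.Lib.Chev.Mult.Laced
import Cfsg.Agent.Lib.Chev.All

/-!
The tables of types E6, E7 and E8 satisfy the conditions of the lifting theorem.
-/

set_option autoImplicit false
set_option maxRecDepth 100000

namespace Cfsg.Agent.Lib.Chev

open Cfsg.Lie

theorem lacedE6 : chkLaced chevE6 tabE6 = true := by decide +kernel
theorem lacedE8 : chkLaced chevE8 tabE8 = true := by decide +kernel
theorem lacedE7 : chkLaced chevE7 tabE7 = true := by decide +kernel


end Cfsg.Agent.Lib.Chev
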