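import Cfsg.Agent.Lib.Chev.Mult.Laced

/-!
Lifting of the root elements to central extensions over fields with three or four elements: the
separation by the torus and the exceptional commuting pairs.
-/

set_option autoImplicit false
set_option linter.unusedSectionVars false

namespace Cfsg.Agent.Lib.Chev

open Cfsg.Lie
open scoped Matrix commutatorElement

universe u

/-- The torus of order `n` separates two roots. -/
def sepB (D : ChevalleyDatum) (T : Tables) (n r s : ℕ) : Bool :=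
  anyLt D.nroots fun p => (pI D T p r % (n : ℤ) == 0) && (pI D T p s % (n : ℤ) != 0)

/-- The root groups commute modulo `p`. -/
def okC (D : ChevalleyDatum) (T : Tables) (p r s : ℕ) : Bool :=
  (s != r) && (s != ng D r) && (T.terms r s).all fun c => c.2.1 % (p : ℤ) == 0

/-- A separated commuting pair. -/
def goodC (D : ChevalleyDatum) (T : Tables) (p n r s : ℕ) : Bool :=
  okC D T p r s && sepB D T n r s

/-- The coefficient of the only term. -/
def sCoef (T : Tables) (r s : ℕ) : ℤ :=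
  match T.terms r s with
  | [c] => c.2.1
  | _ => 0

/-- A chain of moves leading back with the opposite sign. -/
def cycB (D : ChevalleyDatum) (T : Tables) (p n r0 s0 : ℕ) : ℕ → ℕ → ℕ → ℤ → Bool
  | 0, r, s, σ => (r == r0 && s == s0 && σ == -1) || (r == s0 && s == r0 && σ == 1)
  | k + 1, r, s, σ => anyLt D.nroots fun x =>
      let z := hd D T s (ng D x)
      let m := hd D T r x
      decide (z < D.nroots) && decide (m < D.nroots) && sumP D T x z s && sumP D T r x m &&
        goodC D T p n r z && goodC D T p n m s &&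
        cycB D T p n r0 s0 k m z (σ * sCoef T x z * sCoef T r x)

/-- A fundamental root is a term of roots commuting with it. -/
def selfB (D : ChevalleyDatum) (T : Tables) (p n i : ℕ) : Bool :=
  let r := sim D i
  anyLt D.nroots fun a => goodC D T p n r a && anyLt D.nroots fun b => goodC D T p n r b &&
    b != a && b != ng D a &&
    (T.terms a b).any fun c => c.1 == r && decide (c.2.1 * c.2.1 = 1) && c.2.2.2 == 1 &&
      (T.terms a b).all (fun e => e == c || goodC D T p n r e.1) &&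
      ((T.terms a b).filter fun e => e == c).length == 1

/-- All conditions; `self` says whether the fundamental roots need a decomposition. -/
def chkSmall (D : ChevalleyDatum) (T : Tables) (p n : ℕ) (self : Bool) : Bool :=
  allLt D.nroots (fun r => anyLt D.nroots fun m => pI D T m r % (n : ℤ) != 0) &&
  allLt D.rank fun i => (!self || selfB D T p n i) &&
    allLt D.nroots fun s => s == sim D i || s == ng D (sim D i) || sepB D T n (sim D i) s ||
      (!self && okP D T (sim D i) s && cycB D T p n (sim D i) s 2 (sim D i) s 1)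

variable {D : ChevalleyDatum} {T : Tables} {K : Type u} [Field K]

namespace Good

variable (G : Good D T)
include G

/-- The torus separates two roots. -/
def SepMult (K : Type u) [Field K] (r s : ℕ) : Prop :=
  ∃ g ∈ D.diagonalSubgroup K, ∃ κ : K, κ ≠ 1 ∧ (∀ t, g * G.X K r t * g⁻¹ = G.X K r t) ∧
    ∀ u, g * G.X K s u * g⁻¹ = G.X K s (κ * u)

omit G in
theorem zpow_eq_mod {v : K} {n : ℕ} (hv : v ^ n = 1) (hn : 0 < n) (z : ℤ) :
    v ^ z = v ^ ((z % (n : ℤ)).toNat) := by
  have h0 : v ≠ 0 := by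
    rintro rfl
    rw [zero_pow hn.ne'] at hv
    exact zero_ne_one hv
  have h1 : ((z % (n : ℤ)).toNat : ℤ) = z % (n : ℤ) :=
    Int.toNat_of_nonneg (Int.emod_nonneg _ (by omega))
  conv_lhs => rw [← Int.mul_ediv_add_emod z (n : ℤ)]
  rw [zpow_add₀ h0, zpow_mul, zpow_natCast, hv, one_zpow, one_mul, ← h1, zpow_natCast, h1]

omit G in
theorem zpow_mod_zero {v : K} {n : ℕ} (hv : v ^ n = 1) (hn : 0 < n) {z : ℤ}
    (hz : z % (n : ℤ) = 0) : v ^ z = 1 := by
  rw [zpow_eq_mod hv hn, hz]; simp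

omit G in
theorem zpow_mod_ne {v : K} {n : ℕ} (hv : v ^ n = 1) (hn : 0 < n)
    (hord : ∀ k, 0 < k → k < n → v ^ k ≠ 1) {z : ℤ} (hz : z % (n : ℤ) ≠ 0) : v ^ z ≠ 1 := by
  rw [zpow_eq_mod hv hn]
  have h1 := Int.emod_nonneg z (show (n : ℤ) ≠ 0 by omega)
  have h2 := Int.emod_lt_of_pos z (show (0 : ℤ) < n by omega)
  exact hord _ (by omega) (by omega)

theorem sep_of_sepB {v : K} {n : ℕ} (hv : v ^ n = 1) (hn : 0 < n)
    (hord : ∀ k, 0 < k → k < n → v ^ k ≠ 1) {r s : ℕ} (hr : r < D.nroots) (hs : s < D.nroots)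
    (h : sepB D T n r s = true) : G.SepMult K r s := by
  obtain ⟨p, hp, hh⟩ := anyLt_eq_true h
  simp only [pI, isum_eq, Bool.and_eq_true, beq_iff_eq, bne_iff_ne, ne_eq] at hh
  have h0 : v ≠ 0 := by
    rintro rfl
    rw [zero_pow hn.ne'] at hv
    exact zero_ne_one hv
  refine ⟨G.Hg K p v, G.Hg_mem hp h0, v ^ P D T p s, zpow_mod_ne hv hn hord hh.2, fun t => ?_,
    fun u => G.Hg_conj_X hp hs h0 u⟩
  rw [G.Hg_conj_X hp hr h0, show v ^ P D T p r = 1 from zpow_mod_zero hv hn hh.1, one_mul]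

theorem sep_w {i r s : ℕ} (hi : i < D.rank) (hr : r < D.nroots) (hs : s < D.nroots)
    (h : G.SepMult K r s) : G.SepMult K (T.w i r) (T.w i s) := by
  obtain ⟨g, hg, κ, hκ, h1, h2⟩ := h
  refine ⟨G.ni K i * g * (G.ni K i)⁻¹,
    (Subgroup.mem_normalizer_iff.1 (G.ni_normalizer hi) g).1 hg, κ, hκ, fun t => ?_, fun u => ?_⟩
  · have e : G.X K (T.w i r) t =
        G.ni K i * G.X K r ((T.eta i r : K) * t) * (G.ni K i)⁻¹ := by
      rw [G.ni_conj_X hi hr, ← mul_assoc, ← Int.cast_mul, Tables.eta_mul_self, Int.cast_one,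
        one_mul]
    conv_rhs => rw [e, ← h1]
    rw [e]; group
  · have e : ∀ v, G.X K (T.w i s) v =
        G.ni K i * G.X K s ((T.eta i s : K) * v) * (G.ni K i)⁻¹ := fun v => by
      rw [G.ni_conj_X hi hs, ← mul_assoc, ← Int.cast_mul, Tables.eta_mul_self, Int.cast_one,
        one_mul]
    conv_rhs => rw [e, mul_left_comm, ← h2]
    rw [e]; group

theorem ic_of_okC {p : ℕ} (hp : (p : K) = 0) {r s : ℕ} (hr : r < D.nroots) (hs : s < D.nroots)
    (h : okC D T p r s = true) : G.IC K r s := by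
  simp only [okC, Bool.and_eq_true, bne_iff_ne, ne_eq, List.all_eq_true, beq_iff_eq] at h
  obtain ⟨⟨h1, h2⟩, h3⟩ := h
  refine ⟨h2, fun t u => ?_⟩
  have h' := G.commAt r s hr hs h1 h2 t u
  rw [show G.wordG (cw T r s t u) = 1 from ?_, mul_one] at h'
  · exact h'.symm
  · refine List.prod_eq_one fun x hx => ?_
    simp only [cw, List.map_map, List.mem_map] at hx
    obtain ⟨c, hc, rfl⟩ := hx
    obtain ⟨k, hk⟩ := Int.dvd_of_emod_eq_zero (h3 c hc)
    have hC : (c.2.1 : K) = 0 := by rw [hk, Int.cast_mul, Int.cast_natCast, hp, zero_mul]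
    show G.X K c.1 ((c.2.1 : K) * (-t) ^ c.2.2.1 * u ^ c.2.2.2) = 1
    rw [hC, zero_mul, zero_mul, G.X_zero]

theorem sumP_val {r s m : ℕ} (hr : r < D.nroots) (hs : s < D.nroots)
    (h : sumP D T r s m = true) : sCoef T r s * sCoef T r s = 1 ∧
      ∀ t u : K, ⁅G.X K r t, G.X K s u⁆ = G.X K m ((sCoef T r s : K) * t * u) := by
  obtain ⟨⟨-, -, -, h1, h2, -, i2, -⟩, C, hT, hC⟩ := G.sumP_spec (K := K) hr hs h
  have hc : sCoef T r s = C := by simp [sCoef, hT]
  refine ⟨hc ▸ hC, fun t u => ?_⟩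
  have hw : G.wordG (cw T r s (-t) u) = G.X K m ((C : K) * t * u) := by
    simp [cw, hT, Good.wordG, Good.X]
  rw [hc, commutatorElement_def, G.X_commutator hr hs h1 h2, hw, (i2.2 u _).eq,
    mul_inv_cancel_right]

variable {P : Type u} [Group P] (q : P →* GL D.Idx K)

/-- The lifts of two root elements commute. -/
def LC (r s : ℕ) : Prop :=
  ∀ a b : P, ∀ t u, q a = G.X K r t → q b = G.X K s u → Commute a b

theorem lc_w (hr : D.group K ≤ q.range) {i r s : ℕ} (hi : i < D.rank) (hr' : r < D.nroots)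
    (hs : s < D.nroots) (h : G.LC q r s) : G.LC q (T.w i r) (T.w i s) := by
  intro a b t u hqa hqb
  obtain ⟨n, hn⟩ := hr (G.ni_mem_group (F := K) hi)
  have key : ∀ p s' v, s' < D.nroots → q p = G.X K (T.w i s') v →
      q (n⁻¹ * p * n) = G.X K s' ((T.eta i s' : K) * v) := by
    intro p s' v hs' hp
    rw [map_mul, map_mul, map_inv, hn, hp]
    have e := G.ni_conj_X (F := K) hi hs' ((T.eta i s' : K) * v)
    rw [← mul_assoc, ← Int.cast_mul, Tables.eta_mul_self, Int.cast_one, one_mul] at e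
    rw [← e]; group
  have hcom := h _ _ _ _ (key a r t hr' hqa) (key b s u hs hqb)
  have e : ∀ p, p = n * (n⁻¹ * p * n) * n⁻¹ := fun p => by group
  rw [e a, e b]
  exact hcom.conj n

theorem lc_of_sep (hq : q.ker ≤ Subgroup.center P) (hr : D.group K ≤ q.range) {r s : ℕ}
    (hr' : r < D.nroots) (hs : s < D.nroots) (hcomm : ∀ t u, Commute (G.X K r t) (G.X K s u))
    (hsep : G.SepMult K r s) : G.LC q r s := by
  intro a b t u hqa hqb
  obtain ⟨g, hg, κ, hκ, f1, f2⟩ := hsep
  have fixc : ∀ {a b a' b' : P}, q a = q a' → q b = q b' → ⁅a, b⁆ = ⁅a', b'⁆ := fun h h' =>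
    comm_eq_of_q hq h h'
  choose B hB using fun v : K => hr (G.X_mem_group hs v)
  set z : K → P := fun v => ⁅a, B v⁆ with hz
  have zc : ∀ v, z v ∈ Subgroup.center P := fun v => hq (by
    rw [MonoidHom.mem_ker, hz, map_commutatorElement, hqa, hB]
    exact commutatorElement_eq_one_iff_commute.2 (hcomm t v))
  have zadd : ∀ v w, z (v + w) = z v * z w := by
    intro v w
    rw [hz]
    dsimp only
    rw [fixc (a' := a) (b' := B v * B w) rfl (by rw [map_mul, hB, hB, hB, G.X_add])]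
    exact comm_mul_right (Subgroup.mem_center_iff.1 (zc w) (B v))
  obtain ⟨h, hh⟩ := hr (G.borel_le_group (Subgroup.mem_sup_right hg))
  have zinv : ∀ v, z (κ * v) = z v := by
    intro v
    have e : h * z v * h⁻¹ = z (κ * v) := by
      rw [hz]
      dsimp only
      rw [show h * ⁅a, B v⁆ * h⁻¹ = ⁅h * a * h⁻¹, h * B v * h⁻¹⁆ by
        simp only [commutatorElement_def]; group]
      exact fixc (by rw [map_mul, map_mul, map_inv, hh, hqa, f1])
        (by rw [map_mul, map_mul, map_inv, hh, hB, f2, hB])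
    rw [← e, Subgroup.mem_center_iff.1 (zc v) h, mul_inv_cancel_right]
  have zzero : z u = 1 := by
    have hk : κ - 1 ≠ 0 := sub_ne_zero.2 hκ
    have e : κ * (u / (κ - 1)) = u + u / (κ - 1) := by field_simp; ring
    have := zinv (u / (κ - 1))
    rw [e, zadd] at this
    exact mul_eq_right.1 this
  refine commutatorElement_eq_one_iff_commute.1 ?_
  rw [← zzero, hz]
  exact fixc rfl (by rw [hB, hqb])

/-- The lifting theorem from separation data. -/
theorem lift_of_data (hq : q.ker ≤ Subgroup.center P) (hr : D.group K ≤ q.range)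
    (hg : ∀ r < D.nroots, ∃ g ∈ D.diagonalSubgroup K, ∃ κ : K, κ ≠ 1 ∧
      ∀ t, g * G.X K r t * g⁻¹ = G.X K r (κ * t))
    (hself : ∀ r < D.nroots, G.LC q r r)
    (hpair : ∀ r s, r < D.nroots → s < D.nroots → s ≠ r → s ≠ ng D r →
      G.SepMult K r s ∨ G.LC q r s) :
    ∃ τ : D.SteinbergCover K →* P, q.comp τ = G.c_th K := by
  have hX : ∀ {r}, r < D.nroots → ∀ t : K, ∃ a, q a = G.X K r t := fun h t =>
    hr (G.X_mem_group h t)
  have fixc : ∀ {a b a' b' : P}, q a = q a' → q b = q b' → ⁅a, b⁆ = ⁅a', b'⁆ := fun h h' =>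
    comm_eq_of_q hq h h'
  choose! gr hgr κr hκr hgrX using hg
  have hgG : ∀ r < D.nroots, gr r ∈ q.range := fun r hr' =>
    hr (G.borel_le_group (Subgroup.mem_sup_right (hgr r hr')))
  choose! Hl hHl using hgG
  choose! sec hsec using fun r (hr' : r < D.nroots) => hX hr'
  set y : ℕ → K → P := fun r t => ⁅Hl r, sec r (t / (κr r - 1))⁆ with hy
  have qy : ∀ r, r < D.nroots → ∀ t, q (y r t) = G.X K r t := by
    intro r hr' t
    have hk : κr r - 1 ≠ 0 := sub_ne_zero.2 (hκr r hr')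
    rw [hy, map_commutatorElement, hHl r hr', hsec r hr', commutatorElement_def, hgrX r hr',
      G.X_inv, G.X_add]
    congr 1
    field_simp
    ring
  have equiv : ∀ g ∈ D.diagonalSubgroup K, ∀ r, r < D.nroots → ∀ κ : K,
      (∀ t, g * G.X K r t * g⁻¹ = G.X K r (κ * t)) → ∀ h : P, q h = g →
      ∀ t, h * y r t * h⁻¹ = y r (κ * t) := by
    intro g hg r hr' κ hκ h hh t
    rw [hy]
    have e : h * ⁅Hl r, sec r (t / (κr r - 1))⁆ * h⁻¹ =
        ⁅h * Hl r * h⁻¹, h * sec r (t / (κr r - 1)) * h⁻¹⁆ := by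
      rw [commutatorElement_def, commutatorElement_def]; group
    rw [e]
    refine fixc ?_ ?_
    · rw [map_mul, map_mul, map_inv, hh, hHl r hr', G.diagonal_comm hg (hgr r hr'),
        mul_inv_cancel_right]
    · rw [map_mul, map_mul, map_inv, hh, hsec r hr', hsec r hr', hκ, mul_div_assoc]
  have add : ∀ r, r < D.nroots → ∀ t u, y r t * y r u = y r (t + u) := by
    intro r hr' t u
    have e1 : y r (t + u) = ⁅Hl r, sec r (t / (κr r - 1)) * sec r (u / (κr r - 1))⁆ :=
      fixc rfl (by rw [map_mul, hsec r hr', hsec r hr', hsec r hr', G.X_add, add_div])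
    rw [e1, comm_mul_right (hself r hr' _ _ _ _ (hsec r hr' _) (qy r hr' u))]
  refine LiftSys.exists_hom (G := G) ⟨q, y, qy, add, ?_⟩
  intro S hinj r s hr' hs h1 h2 hsS t himg u
  rcases hpair r s hr' hs h1 h2 with hsep | hlc
  swap
  · rw [(hlc _ _ _ _ (qy r hr' t) (qy s hs u)).eq, mul_inv_cancel_right]
    exact mem_liftSpan hs hsS u
  obtain ⟨g, hg', κ, hκ, f1, f2⟩ := hsep
  set Q := liftSpan D y S
  choose e heQ heq using himg
  set z : K → P := fun v => y r t * y s v * (y r t)⁻¹ * (e v)⁻¹ with hz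
  have zc : ∀ v, z v ∈ Subgroup.center P := fun v => hq (by
    rw [MonoidHom.mem_ker, hz, map_mul, map_inv, heq, mul_inv_cancel])
  have zadd : ∀ v w, z (v + w) = z v * z w := by
    intro v w
    have e2 : e (v + w) = e v * e w := hinj (heQ _) (mul_mem (heQ v) (heQ w)) (by
      simp only [map_mul, map_inv, heq, qy _ hr', qy _ hs, ← G.X_add s v w]
      group)
    have h5 := Subgroup.mem_center_iff.1 (zc w) (e v)⁻¹
    calc z (v + w) = y r t * y s v * (y r t)⁻¹ * (z w * (e v)⁻¹) := by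
          simp only [hz]; rw [e2, ← add s hs v w]; group
      _ = y r t * y s v * (y r t)⁻¹ * ((e v)⁻¹ * z w) := by rw [h5]
      _ = _ := by simp only [hz]; group
  obtain ⟨h, hqh⟩ := hr (G.borel_le_group (Subgroup.mem_sup_right hg'))
  have hQ : ∀ x ∈ Q, h * x * h⁻¹ ∈ Q := by
    intro x hx
    have hle : Q ≤ Q.comap (MulAut.conj h).toMonoidHom := by
      refine (Subgroup.closure_le _).2 ?_
      rintro x ⟨j, v, hj, hjS, rfl⟩
      obtain ⟨-, cj, -, hcj⟩ := G.act_diag hg' j hj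
      show h * y j v * h⁻¹ ∈ Q
      rw [equiv g hg' j hj cj hcj h hqh v]
      exact mem_liftSpan hj hjS _
    exact hle hx
  have zinv : ∀ v, z (κ * v) = z v := by
    intro v
    have yr : h * y r t * h⁻¹ = y r t := by
      have := equiv g hg' r hr' 1 (fun w => by rw [one_mul]; exact f1 w) h hqh t
      rwa [one_mul] at this
    have ys : h * y s v * h⁻¹ = y s (κ * v) := equiv g hg' s hs κ f2 h hqh v
    have ee : h * e v * h⁻¹ = e (κ * v) := hinj (hQ _ (heQ v)) (heQ _) (by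
      rw [map_mul, map_mul, map_inv, heq, heq, ← ys]
      conv_rhs => rw [← yr]
      simp only [map_mul, map_inv]
      group)
    have h5 := Subgroup.mem_center_iff.1 (zc v) h
    calc z (κ * v) = (h * y r t * h⁻¹) * (h * y s v * h⁻¹) * (h * y r t * h⁻¹)⁻¹ *
          (h * e v * h⁻¹)⁻¹ := by rw [yr, ys, ee]
      _ = h * z v * h⁻¹ := by simp only [hz]; group
      _ = _ := by rw [h5, mul_inv_cancel_right]
  have hk : κ - 1 ≠ 0 := sub_ne_zero.2 hκ
  have zone : z u = 1 := by
    set v := u / (κ - 1) with hv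
    have e' : κ * v = u + v := by rw [hv]; field_simp; ring
    have := zinv v
    rw [e', zadd] at this
    exact mul_eq_right.1 this
  rw [hz, mul_inv_eq_one] at zone
  show y r t * y s u * (y r t)⁻¹ ∈ Q
  rw [zone]
  exact heQ u

theorem lc_of_goodC {v : K} {p n : ℕ} (hv : v ^ n = 1) (hn : 0 < n)
    (hord : ∀ k, 0 < k → k < n → v ^ k ≠ 1) (hp : (p : K) = 0) (hq : q.ker ≤ Subgroup.center P)
    (hr : D.group K ≤ q.range) {r s : ℕ} (hr' : r < D.nroots) (hs : s < D.nroots)
    (h : goodC D T p n r s = true) : G.LC q r s := by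
  simp only [goodC, Bool.and_eq_true] at h
  exact G.lc_of_sep q hq hr hr' hs (G.ic_of_okC hp hr' hs h.1).2
    (G.sep_of_sepB hv hn hord hr' hs h.2)

/-- Soundness of a chain of moves. -/
theorem cyc_sound {v : K} {p n : ℕ} (hv : v ^ n = 1) (hn : 0 < n)
    (hord : ∀ k, 0 < k → k < n → v ^ k ≠ 1) (hp : (p : K) = 0) (hq : q.ker ≤ Subgroup.center P)
    (hr : D.group K ≤ q.range) {r0 s0 : ℕ} : ∀ (k r s : ℕ) (σ : ℤ), r < D.nroots → s < D.nroots →
    cycB D T p n r0 s0 k r s σ = true → Commute (G.X K r 1) (G.X K s (σ : K)) →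
    ∀ a b, q a = G.X K r 1 → q b = G.X K s (σ : K) →
      ∃ a' b', q a' = G.X K r0 1 ∧ q b' = G.X K s0 (-1) ∧ ⁅a, b⁆ = ⁅a', b'⁆ := by
  intro k
  induction k with
  | zero =>
    intro r s σ _ _ h hcm a b ha hb
    simp only [cycB, Bool.and_eq_true, Bool.or_eq_true, beq_iff_eq] at h
    rcases h with ⟨⟨rfl, rfl⟩, rfl⟩ | ⟨⟨rfl, rfl⟩, rfl⟩
    · exact ⟨a, b, ha, by rw [hb]; simp, rfl⟩
    · refine ⟨b, a⁻¹, by rw [hb, Int.cast_one], by rw [map_inv, ha, G.X_inv], ?_⟩
      have hz : q ⁅a, b⁆ = 1 := by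
        rw [map_commutatorElement, ha, hb]
        exact commutatorElement_eq_one_iff_commute.2 hcm
      have e : ⁅b, a⁻¹⁆ = a⁻¹ * ⁅a, b⁆ * a := by simp only [commutatorElement_def]; group
      rw [e, Subgroup.mem_center_iff.1 (hq hz) a⁻¹, inv_mul_cancel_right]
  | succ k ih =>
    intro r s σ hr' hs h hcm a b ha hb
    obtain ⟨x, hx, hh⟩ := anyLt_eq_true (show (anyLt D.nroots _) = true from h)
    simp only [Bool.and_eq_true, decide_eq_true_eq] at hh
    obtain ⟨⟨⟨⟨⟨⟨hz, hm⟩, s1⟩, s2⟩, g1⟩, g2⟩, hrec⟩ := hh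
    set z := hd D T s (ng D x)
    set m := hd D T r x
    obtain ⟨c1, e1⟩ := G.sumP_val (K := K) hx hz s1
    obtain ⟨c2, e2⟩ := G.sumP_val (K := K) hr' hx s2
    set C1 := sCoef T x z
    set C2 := sCoef T r x
    obtain ⟨A, hA⟩ := hr (G.X_mem_group (F := K) hx (C2 : K))
    obtain ⟨B, hB⟩ := hr (G.X_mem_group (F := K) hz ((σ * C1 * C2 : ℤ) : K))
    have h1 : (C1 : K) * C1 = 1 := by rw [← Int.cast_mul, c1, Int.cast_one]
    have h2 : (C2 : K) * C2 = 1 := by rw [← Int.cast_mul, c2, Int.cast_one]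
    have hqAB : q ⁅A, B⁆ = q b := by
      rw [map_commutatorElement, hA, hB, e1, hb]
      congr 1
      push_cast
      linear_combination ((C2 : K) * C2 * σ) * h1 + (σ : K) * h2
    have hqM : q ⁅a, A⁆ = G.X K m 1 := by
      rw [map_commutatorElement, ha, hA, e2, mul_one, h2]
    -- conjugating by the first lift
    have haB : Commute a B := G.lc_of_goodC q hv hn hord hp hq hr hr' hz g1 _ _ _ _ ha hB
    have hMs : Commute ⁅a, A⁆ ⁅A, B⁆ :=
      G.lc_of_goodC q hv hn hord hp hq hr hm hs g2 _ _ _ _ hqM (hqAB.trans hb)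
    set M := ⁅a, A⁆ with hM
    have f1 : a * A * a⁻¹ = M * A := by rw [hM, commutatorElement_def]; group
    have f2 : a * ⁅A, B⁆ * a⁻¹ = ⁅a * A * a⁻¹, a * B * a⁻¹⁆ := by
      simp only [commutatorElement_def]; group
    rw [f1, haB.eq, mul_inv_cancel_right] at f2
    have f3 : ⁅M * A, B⁆ = (M * ⁅A, B⁆ * M⁻¹) * ⁅M, B⁆ := by
      simp only [commutatorElement_def]; group
    rw [hMs.eq, mul_inv_cancel_right] at f3
    have f4 : ⁅a, ⁅A, B⁆⁆ = ⁅A, B⁆ * ⁅M, B⁆ * ⁅A, B⁆⁻¹ := by
      calc ⁅a, ⁅A, B⁆⁆ = (a * ⁅A, B⁆ * a⁻¹) * ⁅A, B⁆⁻¹ := by rw [commutatorElement_def a]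
        _ = _ := by rw [f2, f3]
    have hq1 : q ⁅M, B⁆ = 1 := by
      have h5 : q ⁅a, ⁅A, B⁆⁆ = 1 := by
        rw [map_commutatorElement, ha, hqAB, hb]
        exact commutatorElement_eq_one_iff_commute.2 hcm
      rw [f4, map_mul, map_mul, map_inv, conj_eq_one_iff] at h5
      exact h5
    have hcm' : Commute (G.X K m 1) (G.X K z ((σ * C1 * C2 : ℤ) : K)) := by
      rw [← hqM, ← hB, ← commutatorElement_eq_one_iff_commute, ← map_commutatorElement]
      exact hq1
    obtain ⟨a', b', ha', hb', e'⟩ := ih m z (σ * C1 * C2) hm hz hrec hcm' M B hqM hB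
    refine ⟨a', b', ha', hb', ?_⟩
    rw [← e', comm_eq_of_q hq (rfl : q a = q a) hqAB.symm, f4,
      Subgroup.mem_center_iff.1 (hq hq1) ⁅A, B⁆, mul_inv_cancel_right]

end Good

end Cfsg.Agent.Lib.Chev
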