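import Cfsg.Agent.Lib.Chev.Mult.SmallField
import Cfsg.Agent.Lib.Chev.Mult.Basic
import Cfsg.Agent.Lib.Chev.WeightData

/-!
The root elements of types F4 and D4 lift over every finite field with more than two elements, those
of type B2 with more than three.
-/

set_option autoImplicit false
set_option maxRecDepth 100000

namespace Cfsg.Agent.Lib.Chev

open Cfsg.Lie

universe u

variable {D : ChevalleyDatum} {T : Tables} {K : Type u} [Field K] [Fintype K]

theorem Good.lifts_four (G : Good D T) (h : chkSmall D T 2 3 true = true)
    (hK : Fintype.card K = 4) : G.Lifts K := by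
  classical
  obtain ⟨v, hv0, hv1⟩ : ∃ v : K, v ≠ 0 ∧ v ≠ 1 := by
    by_contra hne
    push Not at hne
    have h1 : (Finset.univ : Finset K) ⊆ {0, 1} := fun x _ => by
      rw [Finset.mem_insert, Finset.mem_singleton]
      exact or_iff_not_imp_left.2 (hne x)
    have := Finset.card_le_card h1
    rw [Finset.card_univ, hK] at this
    exact absurd (this.trans Finset.card_le_two) (by norm_num)
  have h4 : ((4 : ℕ) : K) = 0 := by rw [← hK]; exact FiniteField.cast_card_eq_zero K
  have h2 : ((2 : ℕ) : K) = 0 := by
    have : (2 : K) * 2 = 0 := by norm_num at h4 ⊢; linear_combination h4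
    simpa using mul_self_eq_zero.1 this
  have hv3 : v ^ 3 = 1 := by
    have := FiniteField.pow_card_sub_one_eq_one v hv0
    rwa [hK] at this
  refine G.lifts_small hv3 (by norm_num) (fun k hk0 hk => ?_) h2 (fun h => by simp at h) h
  interval_cases k
  · simpa using hv1
  · intro h'
    exact hv1 (by rw [pow_succ, h', one_mul] at hv3; exact hv3)

theorem Good.lifts_three (G : Good D T) (h : chkSmall D T 3 2 false = true)
    (hK : Fintype.card K = 3) : G.Lifts K := by
  have h3 : ((3 : ℕ) : K) = 0 := by rw [← hK]; exact FiniteField.cast_card_eq_zero K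
  have hne : (-1 : K) ≠ 1 := by
    intro h'
    have h1 : (1 : K) = 0 := by
      push_cast at h3
      linear_combination h3 + h'
    exact one_ne_zero h1
  refine G.lifts_small (v := (-1 : K)) (by norm_num) (by norm_num) (fun k hk0 hk => ?_) h3
    (fun _ => ⟨by simpa using h3, fun t => ?_⟩) h
  · interval_cases k
    simpa using hne
  · have ht := FiniteField.pow_card t
    rw [hK] at ht
    have : t * ((t - 1) * (t + 1)) = 0 := by linear_combination ht
    rcases mul_eq_zero.1 this with h' | h'
    · exact ⟨0, by simp [h']⟩
    rcases mul_eq_zero.1 h' with h'' | h''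
    · exact ⟨1, by simp [sub_eq_zero.1 h'']⟩
    · exact ⟨2, by push_cast at h3 ⊢; linear_combination h'' - h3⟩

theorem sepD4_chk : chkSep chevD4 tabD4 = true := by decide +kernel
theorem selfD4_chk : chkSelf chevD4 tabD4 = true := by decide +kernel
theorem sepB2_chk : chkSep chevB2 tabB2 = true := by decide +kernel
theorem selfB2_chk : chkSelf chevB2 tabB2 = true := by decide +kernel
theorem sepF4_chk : chkSep chevF4 tabF4 = true := by decide +kernel
theorem selfF4_chk : chkSelf chevF4 tabF4 = true := by decide +kernel

/-- The root elements of type D4 lift. -/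
theorem lifts_D4 (hK : 3 ≤ Fintype.card K) : goodD4.Lifts K := by
  rcases Nat.lt_or_ge 4 (Fintype.card K) with h | h
  · exact goodD4.lifts_of_five ⟨Finset.univ, h⟩ sepD4_chk selfD4_chk
  interval_cases hc : Fintype.card K
  · exact goodD4.lifts_three smallD4_3 hc
  · exact goodD4.lifts_four smallD4_4 hc

/-- The root elements of type F4 lift. -/
theorem lifts_F4 (hK : 3 ≤ Fintype.card K) : goodF4.Lifts K := by
  rcases Nat.lt_or_ge 4 (Fintype.card K) with h | h
  · exact goodF4.lifts_of_five ⟨Finset.univ, h⟩ sepF4_chk selfF4_chk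
  interval_cases hc : Fintype.card K
  · exact goodF4.lifts_three smallF4_3 hc
  · exact goodF4.lifts_four smallF4_4 hc

/-- The root elements of type B2 lift. -/
theorem lifts_B2 (hK : 4 ≤ Fintype.card K) : goodB2.Lifts K := by
  rcases Nat.lt_or_ge 4 (Fintype.card K) with h | h
  · exact goodB2.lifts_of_five ⟨Finset.univ, h⟩ sepB2_chk selfB2_chk
  · exact goodB2.lifts_four smallB2_4 (le_antisymm h hK)

end Cfsg.Agent.Lib.Chev
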