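import Cfsg.Agent.Lib.Chev.Mult.SepLift
import Cfsg.Agent.Lib.Chev.All

/-!
The lifting theorem over the fields with three and four elements for types D4, F4 and B2.
-/

set_option autoImplicit false
set_option linter.unusedSectionVars false
set_option linter.style.haveILetI false
set_option maxRecDepth 100000

namespace Cfsg.Agent.Lib.Chev

open Cfsg.Lie
open scoped Matrix commutatorElement

universe u

variable {D : ChevalleyDatum} {T : Tables} {K : Type u} [Field K]

namespace Good

variable (G : Good D T)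
include G
variable {P : Type u} [Group P] (q : P →* GL D.Idx K)

theorem lc_prime (hq : q.ker ≤ Subgroup.center P) (hpr : ∀ t : K, ∃ k : ℕ, t = (k : K)) {r s : ℕ}
    {a1 b1 : P} (ha1 : q a1 = G.X K r 1) (hb1 : q b1 = G.X K s 1) (hc : Commute a1 b1) :
    G.LC q r s := by
  intro a b t u hqa hqb
  have key : ∀ (j : ℕ) (p1 p : P) (t : K), q p1 = G.X K j 1 → q p = G.X K j t →
      ∃ k : ℕ, ∃ z ∈ Subgroup.center P, p = z * p1 ^ k := by
    intro j p1 p t hp1 hp
    obtain ⟨k, rfl⟩ := hpr t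
    have hX : ∀ k : ℕ, (G.X K j (1 : K)) ^ k = G.X K j (k : K) := fun k => by
      induction k with
      | zero => rw [pow_zero, Nat.cast_zero, G.X_zero]
      | succ k ih => rw [pow_succ, ih, G.X_add, Nat.cast_succ]
    exact ⟨k, p * (p1 ^ k)⁻¹, hq (by
      rw [MonoidHom.mem_ker, map_mul, map_inv, map_pow, hp1, hp, hX, mul_inv_cancel]), by group⟩
  obtain ⟨k, z, hz, rfl⟩ := key r a1 a t ha1 hqa
  obtain ⟨l, w, hw, rfl⟩ := key s b1 b u hb1 hqb
  refine Commute.mul_left (Subgroup.mem_center_iff.1 hz _).symm ?_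
  exact Commute.mul_right (Subgroup.mem_center_iff.1 hw _) (hc.pow_pow k l)

theorem cyc_lc {v : K} {p n : ℕ} (hv : v ^ n = 1) (hn : 0 < n)
    (hord : ∀ k, 0 < k → k < n → v ^ k ≠ 1) (hp : (p : K) = 0) (h3 : (3 : K) = 0)
    (hpr : ∀ t : K, ∃ k : ℕ, t = (k : K)) (hq : q.ker ≤ Subgroup.center P)
    (hr : D.group K ≤ q.range) {r s : ℕ} (hr' : r < D.nroots) (hs : s < D.nroots)
    (hok : okP D T r s = true) (h : cycB D T p n r s 2 r s 1 = true) : G.LC q r s := by
  have hic := G.ic_of_okP (K := K) hr' hs hok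
  obtain ⟨a1, ha1⟩ := hr (G.X_mem_group (F := K) hr' 1)
  obtain ⟨b1, hb1⟩ := hr (G.X_mem_group (F := K) hs 1)
  obtain ⟨a', b', ha', hb', e⟩ := G.cyc_sound q hv hn hord hp hq hr 2 r s 1 hr' hs h
    (hic.2 1 _) a1 b1 ha1 (by rw [hb1, Int.cast_one])
  set c := ⁅a1, b1⁆ with hc
  have hcc : c ∈ Subgroup.center P := hq (by
    rw [MonoidHom.mem_ker, hc, map_commutatorElement, ha1, hb1]
    exact commutatorElement_eq_one_iff_commute.2 (hic.2 1 1))
  have e' : c = ⁅a1, b1⁻¹⁆ := e.trans (comm_eq_of_q hq (ha'.trans ha1.symm)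
    (by rw [hb', map_inv, hb1, G.X_inv]))
  have hinv : ⁅a1, b1⁻¹⁆ = c⁻¹ := by
    have h1 : ⁅a1, b1⁻¹⁆ = b1⁻¹ * c⁻¹ * b1 := by
      rw [hc]; simp only [commutatorElement_def]; group
    rw [h1, Subgroup.mem_center_iff.1 (inv_mem hcc) b1⁻¹, inv_mul_cancel_right]
  have hsq : c * c = 1 := by
    have := e'.trans hinv
    nth_rewrite 2 [this]
    exact mul_inv_cancel c
  have hpow : ∀ k : ℕ, ⁅a1, b1 ^ k⁆ = c ^ k := by
    intro k
    induction k with
    | zero => simp
    | succ k ih =>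
      rw [pow_succ, comm_mul_right (b' := b1)
        (show Commute (b1 ^ k) ⁅a1, b1⁆ from Subgroup.mem_center_iff.1 hcc _), ih, pow_succ]
  have h3' : c ^ 3 = 1 := by
    rw [← hpow, commutatorElement_eq_one_iff_commute]
    refine Subgroup.mem_center_iff.1 (hq ?_) a1
    rw [MonoidHom.mem_ker, map_pow, hb1, pow_succ, pow_succ, pow_one, G.X_add, G.X_add,
      show (1 : K) + 1 + 1 = 0 by rw [← h3]; ring, G.X_zero]
  have h1 : c = 1 := by
    rw [pow_succ, pow_two, hsq, one_mul] at h3'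
    exact h3'
  exact G.lc_prime q hq hpr ha1 hb1 (commutatorElement_eq_one_iff_commute.1 h1)

theorem self_lc {v : K} {p n : ℕ} (hv : v ^ n = 1) (hn : 0 < n)
    (hord : ∀ k, 0 < k → k < n → v ^ k ≠ 1) (hp : (p : K) = 0) (hq : q.ker ≤ Subgroup.center P)
    (hr : D.group K ≤ q.range) {i : ℕ} (hi : i < D.rank) (h : selfB D T p n i = true) :
    G.LC q (sim D i) (sim D i) := by
  intro a b t u hqa hqb
  have fixc : ∀ {a b a' b' : P}, q a = q a' → q b = q b' → ⁅a, b⁆ = ⁅a', b'⁆ := fun h h' =>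
    comm_eq_of_q hq h h'
  set r := sim D i with hr_def
  have hr0 := G.sim_lt hi
  obtain ⟨x, hx, hxx⟩ := anyLt_eq_true h
  simp only [Bool.and_eq_true] at hxx
  obtain ⟨okx, hxx⟩ := hxx
  obtain ⟨z, hz, hzz⟩ := anyLt_eq_true hxx
  simp only [Bool.and_eq_true, List.any_eq_true, List.all_eq_true, Bool.or_eq_true,
    beq_iff_eq, bne_iff_ne, ne_eq, decide_eq_true_eq] at hzz
  obtain ⟨⟨⟨okz, hzx⟩, hzx'⟩, c, hc, ⟨⟨⟨hcr, hCC⟩, hj⟩, hall⟩, hcount⟩ := hzz
  obtain ⟨k, C, ei, ej⟩ := c
  simp only at hcr hCC hj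
  subst hj
  have hC0 : (C : K) * C = 1 := by rw [← Int.cast_mul, hCC, Int.cast_one]
  set w0 := (C : K) * u with hv0
  obtain ⟨A, hA⟩ := hr (G.X_mem_group (F := K) hx (-1))
  obtain ⟨B, hB⟩ := hr (G.X_mem_group (F := K) hz w0)
  have cA : Commute a A := G.lc_of_goodC q hv hn hord hp hq hr hr0 hx okx _ _ _ _ hqa hA
  have cB : Commute a B := G.lc_of_goodC q hv hn hord hp hq hr hr0 hz okz _ _ _ _ hqa hB
  have cC : Commute a ⁅B⁻¹, A⁻¹⁆ := by
    rw [commutatorElement_def]
    exact ((cB.inv_right.mul_right cA.inv_right).mul_right cB.inv_right.inv_right).mul_right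
      cA.inv_right.inv_right
  have hw : G.wordG (cw T x z (-1) w0) = q ⁅B⁻¹, A⁻¹⁆ := by
    rw [map_commutatorElement, map_inv, map_inv, hA, hB]
    have h := G.commAt x z hx hz hzx hzx' (-1) w0
    rw [commutatorElement_def, inv_inv, inv_inv, mul_assoc _ (G.X K z w0), h]
    group
  obtain ⟨l1, l2, hl⟩ := List.append_of_mem hc
  have hmem : ∀ e ∈ l1 ++ l2, e.1 < D.nroots ∧ goodC D T p n r e.1 = true := by
    intro e he
    have hin : e ∈ T.terms x z := by rw [hl]; simp only [List.mem_append] at he ⊢; tauto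
    rcases hall e hin with h | h
    · exfalso
      rw [hl, List.filter_append, List.filter_cons, if_pos (by simp), List.length_append,
        List.length_cons] at hcount
      have hpos : 0 < (l1.filter fun w => w == (k, C, ei, 1)).length +
          (l2.filter fun w => w == (k, C, ei, 1)).length := by
        rw [← List.length_append, ← List.filter_append]
        exact List.length_pos_of_mem (List.mem_filter.2 ⟨he, by simp [h]⟩)
      omega
    · obtain ⟨k', C', a', b'⟩ := e
      exact ⟨(G.mem_terms hx hz hin).1, h⟩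
  set val := fun e : ℕ × ℤ × ℕ × ℕ =>
    (e.1, (e.2.1 : K) * (-(-1 : K)) ^ e.2.2.1 * w0 ^ e.2.2.2) with hval
  have hval0 : val (k, C, ei, 1) = (k, u) := by
    rw [hval]
    simp [hv0, ← mul_assoc, hC0]
  have hlift : ∀ l : List (ℕ × ℤ × ℕ × ℕ), (∀ e ∈ l, e ∈ l1 ++ l2) →
      ∃ p, Commute a p ∧ q p = G.wordG (l.map val) := by
    intro l
    induction l with
    | nil => intro _; exact ⟨1, Commute.one_right _, by simp [Good.wordG]⟩
    | cons e l ih =>
      intro he
      obtain ⟨p', hp', hqp⟩ := ih fun e' he' => he e' (List.mem_cons_of_mem _ he')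
      obtain ⟨g1, g2⟩ := hmem e (he e List.mem_cons_self)
      obtain ⟨E, hE⟩ := hr (G.X_mem_group (F := K) g1 (val e).2)
      refine ⟨E * p',
        (G.lc_of_goodC q hv hn hord hp hq hr hr0 g1 g2 _ _ _ _ hqa hE).mul_right hp', ?_⟩
      rw [map_mul, hE, hqp]
      simp [Good.wordG, hval]
  obtain ⟨p1, hp1, hq1⟩ := hlift l1 (fun e he => List.mem_append_left _ he)
  obtain ⟨p2, hp2, hq2⟩ := hlift l2 (fun e he => List.mem_append_right _ he)
  have cmid : Commute a (p1⁻¹ * ⁅B⁻¹, A⁻¹⁆ * p2⁻¹) :=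
    (hp1.inv_right.mul_right cC).mul_right hp2.inv_right
  have hmid : q (p1⁻¹ * ⁅B⁻¹, A⁻¹⁆ * p2⁻¹) = q b := by
    rw [map_mul, map_mul, map_inv, map_inv, hq1, hq2, ← hw, hqb, cw, hl]
    simp only [Good.wordG, List.map_append, List.map_cons, List.prod_append, List.prod_cons,
      List.map_map]
    have := hval0
    simp only [hval, Prod.mk.injEq] at this
    rw [this.2, hcr]
    simp only [hval, Function.comp_def]
    group
    rfl
  have : ⁅a, b⁆ = 1 := by
    rw [fixc rfl hmid.symm]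
    exact commutatorElement_eq_one_iff_commute.2 cmid
  exact commutatorElement_eq_one_iff_commute.1 this

/-- The lifting theorem from the small field check. -/
theorem lifts_small {v : K} {p n : ℕ} (hv : v ^ n = 1) (hn : 0 < n)
    (hord : ∀ k, 0 < k → k < n → v ^ k ≠ 1) (hp : (p : K) = 0) {self : Bool}
    (hpr : self = false → (3 : K) = 0 ∧ ∀ t : K, ∃ k : ℕ, t = (k : K))
    (h : chkSmall D T p n self = true) : G.Lifts K := by
  intro P _ q hq hr
  simp only [chkSmall, Bool.and_eq_true] at h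
  obtain ⟨hall, hrank⟩ := h
  have h0 : v ≠ 0 := by
    rintro rfl
    rw [zero_pow hn.ne'] at hv
    exact zero_ne_one hv
  have hbase : ∀ i < D.rank, (self = true → selfB D T p n i = true) ∧ ∀ s < D.nroots,
      s = sim D i ∨ s = ng D (sim D i) ∨ sepB D T n (sim D i) s = true ∨
        (self = false ∧ okP D T (sim D i) s = true ∧
          cycB D T p n (sim D i) s 2 (sim D i) s 1 = true) := by
    intro i hi
    have h1 := allLt_eq_true hrank i hi
    simp only [Bool.and_eq_true, Bool.or_eq_true, Bool.not_eq_true'] at h1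
    refine ⟨fun hs => h1.1.resolve_left (by simp [hs]), fun s hs => ?_⟩
    have h2 := allLt_eq_true h1.2 s hs
    simp only [Bool.or_eq_true, Bool.and_eq_true, Bool.not_eq_true', beq_iff_eq] at h2
    tauto
  refine G.lift_of_data q hq hr (fun r hr' => ?_) ?_ ?_
  · obtain ⟨m, hm, hmm⟩ := anyLt_eq_true (allLt_eq_true hall r hr')
    simp only [pI, isum_eq, bne_iff_ne, ne_eq] at hmm
    exact ⟨G.Hg K m v, G.Hg_mem hm h0, v ^ Cfsg.Agent.Lib.Chev.P D T m r,
      zpow_mod_ne hv hn hord hmm, G.Hg_conj_X hm hr' h0⟩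
  · refine G.root_induction (fun i hi => ?_) fun i r hi hr' ih => G.lc_w q hr hi hr' hr' ih
    cases hs : self with
    | true => exact G.self_lc q hv hn hord hp hq hr hi ((hbase i hi).1 hs)
    | false =>
      obtain ⟨a1, ha1⟩ := hr (G.X_mem_group (F := K) (G.sim_lt hi) 1)
      exact G.lc_prime q hq (hpr hs).2 ha1 ha1 (Commute.refl _)
  · suffices key : ∀ r < D.nroots, ∀ s, s < D.nroots → s ≠ r → s ≠ ng D r →
        G.SepMult K r s ∨ G.LC q r s from fun r s hr' hs => key r hr' s hs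
    refine G.root_induction (fun i hi s hs h1 h2 => ?_) fun i r hi hr' ih s hs h1 h2 => ?_
    · rcases (hbase i hi).2 s hs with h | h | h | ⟨hself, hok, hcyc⟩
      · exact absurd h h1
      · exact absurd h h2
      · exact Or.inl (G.sep_of_sepB hv hn hord (G.sim_lt hi) hs h)
      · exact Or.inr (G.cyc_lc q hv hn hord hp (hpr hself).1 (hpr hself).2 hq hr (G.sim_lt hi) hs
          hok hcyc)
    · have hs' := G.w_lt hi hs
      rcases ih (T.w i s) hs' (fun e => h1 (by rw [← G.w_w hi hs, e]))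
        (fun e => h2 (by rw [← G.w_w hi hs, e, G.w_ng hi hr'])) with h | h
      · left
        have := G.sep_w hi hr' hs' h
        rwa [G.w_w hi hs] at this
      · right
        have := G.lc_w q hr hi hr' hs' h
        rwa [G.w_w hi hs] at this

end Good

theorem smallD4_3 : chkSmall chevD4 tabD4 3 2 false = true := by decide +kernel
theorem smallD4_4 : chkSmall chevD4 tabD4 2 3 true = true := by decide +kernel
theorem smallF4_3 : chkSmall chevF4 tabF4 3 2 false = true := by decide +kernel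
theorem smallF4_4 : chkSmall chevF4 tabF4 2 3 true = true := by decide +kernel
theorem smallB2_4 : chkSmall chevB2 tabB2 2 3 true = true := by decide +kernel

end Cfsg.Agent.Lib.Chev
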